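import Groth.Agent.Lib.ZConn5.Count
import Groth.Agent.Lib.LimH13.ProperDescend
import Groth.Agent.Lib.Descend19.Flat
import Groth.Agent.Lib.FlatH4.GeomFibre
import Groth.Agent.Lib.H12.FlatComp
import Groth.Agent.Lib.FibDepth5.GeomRedOpen
import Groth.Agent.Lib.FibDepth5.Apps
import Groth.Agent.Lib.Unibr4.GoDown

/-!
Numbers of geometric connected components of proper flat morphisms of finite presentation (EGA IV 15.5.9, 12.2.4).
-/

universe u

open CategoryTheory CategoryTheory.Limits AlgebraicGeometry TopologicalSpace IsLocalRing Topology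

set_option backward.isDefEq.respectTransparency false
set_option backward.isDefEq.respectTransparency.types false

namespace Groth.Agent.ZConn5

variable {X Y : Scheme.{u}}

theorem isPullback_stage {P S T T' Xi : Scheme.{u}} {u : P ⟶ S} {ui : Xi ⟶ T} {qX : P ⟶ Xi} {πi : S ⟶ T}
    (sq : IsPullback qX u ui πi) (ψ : T' ⟶ T) (π : S ⟶ T') (hπ : π ≫ ψ = πi) :
    ∃ q : P ⟶ pullback ui ψ, IsPullback q u (pullback.snd ui ψ) π :=
  ⟨pullback.lift qX (u ≫ π) (by rw [Category.assoc, hπ]; exact sq.w),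
    IsPullback.of_right (by rw [pullback.lift_fst, hπ]; exact sq) (pullback.lift_snd _ _ _)
      (IsPullback.of_hasPullback ui ψ)⟩

/-- Proper flat morphisms of finite presentation come from Noetherian bases. -/
theorem exists_model {A : CommRingCat.{u}} (u : X ⟶ Spec A) [IsProper u] [Flat u] [LocallyOfFinitePresentation u] :
    ∃ (S₁ X₁ : Scheme.{u}) (_ : IsLocallyNoetherian S₁) (π : Spec A ⟶ S₁) (u₁ : X₁ ⟶ S₁) (q : X ⟶ X₁),
      IsPullback q u u₁ π ∧ IsProper u₁ ∧ Flat u₁ ∧ LocallyOfFinitePresentation u₁ := by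
  let c := ConsH13.approxCone A
  have hc : IsLimit c := ConsH13.isLimitApproxCone A
  haveI : CompactSpace X := QuasiCompact.compactSpace_of_compactSpace u
  haveI : QuasiSeparatedSpace X := quasiSeparatedSpace_of_quasiSeparated u
  let u' : X ⟶ c.pt := u
  haveI : LocallyOfFinitePresentation u' := ‹LocallyOfFinitePresentation u›
  haveI : IsProper u' := ‹IsProper u›
  haveI : Flat u' := ‹Flat u›
  obtain ⟨i, X₀, u₀, qX, h1, h2, h3, h4⟩ := LimH13.hasModel_of_finitePresentation hc (X := X) u'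
  haveI := h1; haveI := h2; haveI := h3
  let D := ConsH13.approxDiagram A
  haveI : ∀ j k : _, ∀ a : j ⟶ k, IsAffineHom (D.map a) := fun j k a => inferInstance
  -- separated
  let c₁ : Cone (Over.forget i ⋙ D) := c.whisker (Over.forget i)
  have hc₁ : IsLimit c₁ := (Functor.Initial.isLimitWhiskerEquiv (Over.forget i) c).symm hc
  haveI : ∀ k, IsAffineHom ((Descend.overT D i).app k) := fun k => inferInstanceAs (IsAffineHom (D.map k.hom))
  have hq₁ : ∀ k, c₁.π.app k ≫ (Descend.overT D i).app k = c.π.app i := fun k => c.w k.hom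
  obtain ⟨k₁, hk₁⟩ := LimH13.exists_isSeparated (f := u₀) (D := Over.forget i ⋙ D) (t := Descend.overT D i)
    (q := c.π.app i) hc₁ hq₁ (g := u') h4
  let i₁ := k₁.left
  let u₁ := pullback.snd u₀ (D.map k₁.hom)
  haveI : IsSeparated u₁ := hk₁
  obtain ⟨q₁, sq₁⟩ := isPullback_stage h4 (D.map k₁.hom) (c.π.app i₁) (c.w k₁.hom)
  haveI : LocallyOfFinitePresentation u₁ := MorphismProperty.pullback_snd _ _ inferInstance
  haveI : CompactSpace ↥(pullback u₀ (D.map k₁.hom)) :=
    QuasiCompact.compactSpace_of_compactSpace (pullback.fst u₀ (D.map k₁.hom))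
  haveI : QuasiCompact u₁ := QuasiCompact.of_comp u₁ (Scheme.toSpecΓ (D.obj i₁))
  -- flat
  let c₂ : Cone (Over.forget i₁ ⋙ D) := c.whisker (Over.forget i₁)
  have hc₂ : IsLimit c₂ := (Functor.Initial.isLimitWhiskerEquiv (Over.forget i₁) c).symm hc
  haveI : ∀ k, IsAffineHom ((Descend.overT D i₁).app k) := fun k => inferInstanceAs (IsAffineHom (D.map k.hom))
  have hq₂ : ∀ k, c₂.π.app k ≫ (Descend.overT D i₁).app k = c.π.app i₁ := fun k => c.w k.hom
  obtain ⟨k₂, hk₂⟩ := Descend19.exists_flat (f := u₁) (D := Over.forget i₁ ⋙ D) (t := Descend.overT D i₁)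
    (q := c.π.app i₁) hc₂ hq₂ (g := u') sq₁
  let i₂ := k₂.left
  let u₂ := pullback.snd u₁ (D.map k₂.hom)
  haveI : Flat u₂ := hk₂
  obtain ⟨q₂, sq₂⟩ := isPullback_stage sq₁ (D.map k₂.hom) (c.π.app i₂) (c.w k₂.hom)
  haveI : LocallyOfFinitePresentation u₂ := MorphismProperty.pullback_snd _ _ inferInstance
  haveI : IsSeparated u₂ := MorphismProperty.pullback_snd _ _ inferInstance
  haveI : QuasiCompact u₂ := MorphismProperty.pullback_snd _ _ inferInstance
  haveI : CompactSpace ↥(pullback u₁ (D.map k₂.hom)) := QuasiCompact.compactSpace_of_compactSpace u₂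
  haveI : QuasiSeparatedSpace ↥(pullback u₁ (D.map k₂.hom)) := quasiSeparatedSpace_of_quasiSeparated u₂
  -- proper
  let c₃ : Cone (Over.forget i₂ ⋙ D) := c.whisker (Over.forget i₂)
  have hc₃ : IsLimit c₃ := (Functor.Initial.isLimitWhiskerEquiv (Over.forget i₂) c).symm hc
  haveI : ∀ k, IsAffineHom ((Descend.overT D i₂).app k) := fun k => inferInstanceAs (IsAffineHom (D.map k.hom))
  have hq₃ : ∀ k, c₃.π.app k ≫ (Descend.overT D i₂).app k = c.π.app i₂ := fun k => c.w k.hom
  obtain ⟨k₃, hk₃⟩ := LimH13.exists_isProper u₂ (E := Over.forget i₂ ⋙ D) (Descend.overT D i₂) (e := c₃)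
    (q := c.π.app i₂) (r := u') hc₃ hq₃ sq₂
  obtain ⟨q₃, sq₃⟩ := isPullback_stage sq₂ (D.map k₃.hom) (c.π.app k₃.left) (c.w k₃.hom)
  refine ⟨D.obj k₃.left, _, ?_, c.π.app k₃.left, pullback.snd u₂ (D.map k₃.hom), q₃, sq₃, hk₃,
    MorphismProperty.pullback_snd _ _ inferInstance, MorphismProperty.pullback_snd _ _ inferInstance⟩
  show IsLocallyNoetherian (Spec ((ConsH13.subFunctor A).obj k₃.left.unop))
  haveI : IsNoetherianRing ((ConsH13.subFunctor A).obj k₃.left.unop) := inferInstance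
  infer_instance

theorem geometricallyReduced_fibre_iff {X' Y' : Scheme.{u}} {f : X ⟶ Y} {f' : X' ⟶ Y'} {g' : X' ⟶ X} {g : Y' ⟶ Y}
    (hc : IsPullback g' f' f g) (y' : Y') :
    GeometricallyReduced (f'.fiberToSpecResidueField y') ↔ GeometricallyReduced (f.fiberToSpecResidueField (g y')) := by
  rw [geometricallyReduced_iff, geometricallyReduced_iff]
  exact FlatH4.geometrically_fibre_baseChange
    (fun Z W h hs hf hZ => by
      haveI := hs; haveI := hf; haveI : AlgebraicGeometry.IsReduced Z := hZ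
      exact H12.isReduced_of_flat_surjective h) f g f' g' hc y'

theorem count_local (f : X ⟶ Y) [IsProper f] [Flat f] [LocallyOfFinitePresentation f] (y : Y) :
    (∃ V ∈ nhds y, ∀ z ∈ V, MoreMor.nGeomConnComp f y ≤ MoreMor.nGeomConnComp f z) ∧
      (GeometricallyReduced (f.fiberToSpecResidueField y) →
        ∃ V ∈ nhds y, ∀ z ∈ V, MoreMor.nGeomConnComp f z = MoreMor.nGeomConnComp f y) := by
  obtain ⟨U, hU, hyU, -⟩ := exists_isAffineOpen_mem_and_subset (X := Y) (x := y) (U := ⊤) trivial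
  let j := hU.fromSpec
  obtain ⟨S₁, X₁, _, π, u₁, q, sq, _, _, _⟩ := exists_model (pullback.snd f j)
  have hsq : IsPullback (pullback.fst f j) (pullback.snd f j) f j := IsPullback.of_hasPullback f j
  have hcount : ∀ p, MoreMor.nGeomConnComp f (j p) = MoreMor.nGeomConnComp u₁ (π p) := fun p =>
    (GeomSpread4.count_baseChange hsq p).2.symm.trans (GeomSpread4.count_baseChange sq p).2
  let p := hU.primeIdealOf ⟨y, hyU⟩
  have hp : j p = y := hU.fromSpec_primeIdealOf ⟨y, hyU⟩
  have hnhd : ∀ V ∈ nhds (π p), j '' (π ⁻¹' V) ∈ nhds y := fun V hV =>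
    hp ▸ j.isOpenEmbedding.isOpenMap.image_mem_nhds (π.continuous.continuousAt.preimage_mem_nhds hV)
  have hopen : ∀ x : X₁, u₁ x = π p → EGA43.IsUnivOpenAt u₁ x := fun x _ =>
    Unibr4.isUnivOpenAt_of_universallyOpen u₁ x
  obtain ⟨V, hV, hle⟩ := eventually_le u₁ (π p) hopen
  refine ⟨⟨_, hnhd V hV, ?_⟩, fun hred => ?_⟩
  · rintro _ ⟨z, hz, rfl⟩
    rw [← hp, hcount, hcount]
    exact hle _ hz
  · rw [← hp, ← geometricallyReduced_fibre_iff hsq, geometricallyReduced_fibre_iff sq] at hred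
    obtain ⟨W, hW, hge⟩ := eventually_ge u₁ (π p) hopen hred
    refine ⟨_, hnhd _ (Filter.inter_mem hV hW), ?_⟩
    rintro _ ⟨z, hz, rfl⟩
    rw [← hp, hcount, hcount]
    exact le_antisymm (hge _ hz.2) (hle _ hz.1)

theorem geometricallyReduced_iff_forall {k : Type u} [Field k] {F : Scheme.{u}} (g : F ⟶ Spec (CommRingCat.of k)) :
    GeometricallyReduced g ↔ ∀ x : F, FBase.IsGeomReducedAt g x := by
  refine ⟨fun h x => SectionCompFlat4.isGeomReducedAt_of_geometricallyReduced g x, fun h => ⟨?_⟩⟩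
  intro K _ σ Z fst snd hsq
  obtain ⟨φ, rfl⟩ : ∃ φ, Spec.map φ = σ := ⟨Spec.preimage σ, Spec.map_preimage σ⟩
  letI : Algebra k K := φ.hom.toAlgebra
  haveI : ∀ z : ↥(FBase.bc g K), _root_.IsReduced ((FBase.bc g K).presheaf.stalk z) := fun z =>
    h (FBase.bcπ g K z) K z rfl
  haveI : AlgebraicGeometry.IsReduced (FBase.bc g K) := isReduced_of_isReduced_stalk _
  exact isReduced_of_isOpenImmersion (Y := FBase.bc g K) hsq.isoPullback.hom

/-- EGA IV 12.2.4 (vi). -/
theorem isOpen_geomReduced_count (f : X ⟶ Y) [IsProper f] [Flat f] [LocallyOfFinitePresentation f] (k : ℕ∞) :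
    IsOpen {y : Y | GeometricallyReduced (f.fiberToSpecResidueField y) ∧ MoreMor.nGeomConnComp f y = k} := by
  have hG : IsOpen {y : Y | ∀ z : f.fiber y, FBase.IsGeomReducedAt (f.fiberToSpecResidueField y) z} :=
    FibDepth5.isOpen_forall_fiber f (fun y z => FBase.IsGeomReducedAt (f.fiberToSpecResidueField y) z)
      (by
        convert FibDepth5.isOpen_flat_geomReduced f using 1
        exact Set.ext fun x => ⟨fun h => ⟨Flat.stalkMap f x, h⟩, fun h => h.2⟩)
  refine isOpen_iff_mem_nhds.2 fun y ⟨hy, hk⟩ => ?_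
  obtain ⟨V, hV, hc⟩ := (count_local f y).2 hy
  refine Filter.mem_of_superset (Filter.inter_mem hV (hG.mem_nhds fun z =>
    (geometricallyReduced_iff_forall (k := Y.residueField y) _).1 hy z)) fun z hz => ?_
  exact ⟨(geometricallyReduced_iff_forall (k := Y.residueField z) _).2 hz.2, (hc z hz.1).trans hk⟩

end Groth.Agent.ZConn5
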