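import Groth.Agent.Lib.ZConn5.Trait
import Groth.Agent.S4978
import Groth.Agent.S0549
import Groth.Agent.Lib.DVRVal.Basic
import Groth.Agent.Lib.ConsTop3.Basic
import Groth.Agent.Lib.ProConsDesc12.Basic
import Groth.Agent.Lib.LimH13.ArrowModel
import Groth.Agent.Lib.AnPtsTop.Global
import Groth.Prelude.Def_EGA43

/-!
A constructible set which is fibrewise a geometrically connected component, proper in the fibre at `y` and
universally submersive onto its image, is proper at `y` (EGA IV 15.7.9).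
-/

universe u

open CategoryTheory CategoryTheory.Limits AlgebraicGeometry TopologicalSpace IsLocalRing Topology

set_option backward.isDefEq.respectTransparency false
set_option backward.isDefEq.respectTransparency.types false

namespace Groth.Agent.ZConn5

open ProperNhd

variable {X Y : Scheme.{u}}

theorem propOn_range {R : Scheme.{u}} (q : X ⟶ Y) [IsSeparated q] [LocallyOfFiniteType q] (Θ : R ⟶ X)
    [IsProper (Θ ≫ q)] : PropOn q (Set.range Θ) := by
  rw [← Set.image_univ]
  refine PropOn.image Θ ⟨isClosed_univ, ?_⟩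
  infer_instance

/-- Properness of the part of a base change over a piece which is proper over a monomorphism. -/
theorem propOn_of_piece (f : X ⟶ Y) [IsSeparated f] [LocallyOfFiniteType f] {T T₀ W B : Scheme.{u}}
    (g : T ⟶ Y) (i : T₀ ⟶ T) [IsClosedImmersion i] (w : W ⟶ X) (b : W ⟶ B) [IsProper b] (j : B ⟶ Y) [Mono j]
    (hb : b ≫ j = w ≫ f) (a : T₀ ⟶ B) (ha : a ≫ j = i ≫ g) :
    PropOn (pullback.snd f g) (pullback.fst f g ⁻¹' Set.range w ∩ pullback.snd f g ⁻¹' Set.range i) := by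
  let Θ : pullback b a ⟶ pullback f g := pullback.lift (pullback.fst b a ≫ w) (pullback.snd b a ≫ i) (by
    rw [Category.assoc, Category.assoc, ← hb, ← ha, pullback.condition_assoc])
  haveI : IsProper (Θ ≫ pullback.snd f g) := by
    rw [pullback.lift_snd]; infer_instance
  convert propOn_range (pullback.snd f g) Θ
  refine subset_antisymm ?_ ?_
  · rintro p ⟨⟨v, hv⟩, t₀, ht₀⟩
    obtain ⟨t, ht, -⟩ := Scheme.Pullback.exists_preimage_pullback p t₀ ht₀.symm
    obtain ⟨r, -, hr⟩ := Scheme.Pullback.exists_preimage_pullback (f := w)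
      (g := pullback.fst (pullback.snd f g) i ≫ pullback.fst f g) v t (by
        rw [Scheme.Hom.comp_apply, ht]; exact hv)
    let ψ : pullback w (pullback.fst (pullback.snd f g) i ≫ pullback.fst f g) ⟶ pullback b a :=
      pullback.lift (pullback.fst _ _) (pullback.snd _ _ ≫ pullback.snd _ _) (by
        rw [← cancel_mono j, Category.assoc, Category.assoc, Category.assoc, hb, ha, pullback.condition_assoc,
          Category.assoc, pullback.condition, pullback.condition_assoc])
    have hψ : ψ ≫ Θ = pullback.snd _ _ ≫ pullback.fst (pullback.snd f g) i := by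
      apply pullback.hom_ext
      · rw [Category.assoc, pullback.lift_fst, ← Category.assoc, pullback.lift_fst, pullback.condition,
          Category.assoc]
      · rw [Category.assoc, pullback.lift_snd, ← Category.assoc, pullback.lift_snd, Category.assoc,
          Category.assoc, ← pullback.condition]
    refine ⟨ψ r, ?_⟩
    rw [← Scheme.Hom.comp_apply, hψ, Scheme.Hom.comp_apply, hr, ht]
  · rintro _ ⟨r, rfl⟩
    refine ⟨⟨pullback.fst b a r, ?_⟩, pullback.snd b a r, ?_⟩
    · rw [← Scheme.Hom.comp_apply, ← Scheme.Hom.comp_apply, pullback.lift_fst]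
    · rw [← Scheme.Hom.comp_apply, ← Scheme.Hom.comp_apply, pullback.lift_snd]

/-- The conditions on `Z` at `y`. -/
structure CompData (f : X ⟶ Y) (Z : Set X) (y : Y) : Prop where
  comp : ∀ y' : Y, y' ⤳ y → ∃ x ∈ Z, f x = y' ∧ Z ∩ f ⁻¹' {y'} = connectedComponentIn (f ⁻¹' {y'}) x
  geom : ∀ y' : Y, y' ⤳ y → ∀ (K : Type u) [Field K] [Algebra (IsLocalRing.ResidueField (Y.presheaf.stalk y')) K],
    _root_.IsPreconnected ((FBase.bcπ (f.fiberToSpecResidueField y') K ≫ f.fiberι y').base ⁻¹' Z)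
  hop : IsOpen ((f.fiberι y).base ⁻¹' Z)
  proper : IsProper (Scheme.Opens.ι (⟨(f.fiberι y).base ⁻¹' Z, hop⟩ : (f.fiber y).Opens) ≫
    f.fiberToSpecResidueField y)
  subm : ∀ (Y' : Scheme.{u}) (h : Y' ⟶ Y) (E : Set Y'), E ⊆ h.base ⁻¹' (f.base '' Z) →
    (∃ W : Set ↥(pullback f h), IsOpen W ∧
      W ∩ (pullback.fst f h).base ⁻¹' Z = (pullback.snd f h).base ⁻¹' E ∩ (pullback.fst f h).base ⁻¹' Z) →
    ∃ V : Set Y', IsOpen V ∧ V ∩ h.base ⁻¹' (f.base '' Z) = E

namespace CompData

variable {f : X ⟶ Y} {Z : Set X} {y : Y}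

/-- Within a fibre over a generisation, membership in `Z` follows specialisations both ways. -/
theorem mem_iff_of_specializes (D : CompData f Z y) {a b : X} (ha : f a ⤳ y) (hab : f a = f b) (h : a ⤳ b) :
    a ∈ Z ↔ b ∈ Z := by
  obtain ⟨c, -, -, hZ⟩ := D.comp (f a) ha
  have hpair : _root_.IsPreconnected ({a, b} : Set X) :=
    isPreconnected_singleton.subset_closure (Set.singleton_subset_iff.2 (Set.mem_insert a _))
      (Set.insert_subset (subset_closure rfl) (Set.singleton_subset_iff.2 (specializes_iff_mem_closure.1 h)))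
  have hsub : ({a, b} : Set X) ⊆ f ⁻¹' {f a} := Set.insert_subset rfl (Set.singleton_subset_iff.2 hab.symm)
  constructor
  · intro haZ
    have h1 : a ∈ connectedComponentIn (f ⁻¹' {f a}) c := hZ.le ⟨haZ, rfl⟩
    rw [connectedComponentIn_eq h1] at hZ
    exact (hZ.ge (hpair.subset_connectedComponentIn (Set.mem_insert a _) hsub (Set.mem_insert_of_mem _ rfl))).1
  · intro hbZ
    have h1 : b ∈ connectedComponentIn (f ⁻¹' {f a}) c := hZ.le ⟨hbZ, hab.symm⟩
    rw [connectedComponentIn_eq h1] at hZ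
    exact (hZ.ge (hpair.subset_connectedComponentIn (Set.mem_insert_of_mem _ rfl) hsub (Set.mem_insert a _))).1

variable {A : Type u} [CommRing A] [IsDomain A]

/-- The generic piece of a base change to a domain is connected. -/
theorem isPreconnected_generic (D : CompData f Z y) (g : Spec (CommRingCat.of A) ⟶ Y)
    (hg : g (genericPoint (Spec (CommRingCat.of A))) ⤳ y) :
    _root_.IsPreconnected (pullback.fst f g ⁻¹' Z ∩
      pullback.snd f g ⁻¹' {genericPoint (Spec (CommRingCat.of A))}) := by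
  let K := FractionRing A
  let τ : Spec (CommRingCat.of K) ⟶ Spec (CommRingCat.of A) := Spec.map (CommRingCat.ofHom (algebraMap A K))
  have hτ : Set.range τ = {genericPoint (Spec (CommRingCat.of A))} := by
    rw [← S4978.pt_generic (K := K) A]
    ext t
    exact ⟨fun ⟨s, hs⟩ => hs ▸ congrArg τ (Subsingleton.elim _ _), fun h => ⟨_, h.symm⟩⟩
  obtain ⟨y', hy', e, he⟩ : ∃ y', y' ⤳ y ∧ ∃ e : Y.residueField y' ⟶ CommRingCat.of K,
      Spec.map e ≫ Y.fromSpecResidueField y' = τ ≫ g := by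
    refine ⟨pt (τ ≫ g), ?_, S4978.exists_residueHom _⟩
    show g (τ (closedPoint K)) ⤳ y
    rwa [show τ (closedPoint K) = genericPoint (Spec (CommRingCat.of A)) from S4978.pt_generic (K := K) A]
  letI : Algebra (IsLocalRing.ResidueField (Y.presheaf.stalk y')) K := e.hom.toAlgebra
  let k := f.fiberToSpecResidueField y'
  let e' : Spec (CommRingCat.of K) ⟶ Spec (CommRingCat.of (IsLocalRing.ResidueField (Y.presheaf.stalk y'))) :=
    Spec.map (CommRingCat.ofHom (algebraMap (IsLocalRing.ResidueField (Y.presheaf.stalk y')) K))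
  have he' : e' ≫ Y.fromSpecResidueField y' = τ ≫ g := he
  have hsq : f.fiberι y' ≫ f = k ≫ Y.fromSpecResidueField y' := pullback.condition
  let Φ : pullback k e' ⟶ pullback f g :=
    pullback.lift (pullback.fst k e' ≫ f.fiberι y') (pullback.snd k e' ≫ τ) (by
      rw [Category.assoc, Category.assoc, hsq, ← he', pullback.condition_assoc])
  let T := pullback (pullback.snd f g) τ
  let u : T ⟶ f.fiber y' := pullback.lift (pullback.fst _ _ ≫ pullback.fst f g) (pullback.snd _ _ ≫ e') (by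
    rw [Category.assoc, Category.assoc, he', pullback.condition, pullback.condition_assoc])
  let ψ : T ⟶ pullback k e' := pullback.lift u (pullback.snd _ _) (pullback.lift_snd _ _ _)
  have hψ : ψ ≫ Φ = pullback.fst (pullback.snd f g) τ := by
    apply pullback.hom_ext
    · rw [Category.assoc, pullback.lift_fst, ← Category.assoc, pullback.lift_fst]
      exact pullback.lift_fst _ _ _
    · rw [Category.assoc, pullback.lift_snd, ← Category.assoc, pullback.lift_snd, ← pullback.condition]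
  have hpre : pullback.fst f g ⁻¹' Z ∩ pullback.snd f g ⁻¹' {genericPoint (Spec (CommRingCat.of A))} =
      Φ '' ((FBase.bcπ k K ≫ f.fiberι y').base ⁻¹' Z) := by
    refine subset_antisymm ?_ ?_
    · rintro p ⟨hpZ, hpη⟩
      obtain ⟨s, hs⟩ := hτ.ge (rfl : genericPoint (Spec (CommRingCat.of A)) ∈ ({_} : Set _))
      obtain ⟨t, ht, -⟩ := Scheme.Pullback.exists_preimage_pullback (f := pullback.snd f g) (g := τ) p s
        (hpη.trans hs.symm)
      have hΦ : Φ (ψ t) = p := by rw [← Scheme.Hom.comp_apply, hψ, ht]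
      refine ⟨ψ t, ?_, hΦ⟩
      show (pullback.fst k e' ≫ f.fiberι y') (ψ t) ∈ Z
      rw [← pullback.lift_fst (pullback.fst k e' ≫ f.fiberι y') (pullback.snd k e' ≫ τ) (by
        rw [Category.assoc, Category.assoc, hsq, ← he', pullback.condition_assoc])]
      show pullback.fst f g (Φ (ψ t)) ∈ Z
      rw [hΦ]
      exact hpZ
    · rintro _ ⟨c, hc, rfl⟩
      refine ⟨?_, ?_⟩
      · show (Φ ≫ pullback.fst f g) c ∈ Z
        rw [pullback.lift_fst]
        exact hc
      · show (Φ ≫ pullback.snd f g) c ∈ ({_} : Set _)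
        rw [pullback.lift_snd]
        exact hτ.le ⟨pullback.snd k e' c, rfl⟩
  rw [hpre]
  exact (D.geom y' hy' K).image _ Φ.continuous.continuousOn

/-- Submersivity: some point over the closed point is in the closure of the generic piece. -/
theorem exists_mem_closure_generic [IsDiscreteValuationRing A] (D : CompData f Z y)
    (g : Spec (CommRingCat.of A) ⟶ Y) (hg : g (closedPoint A) ⤳ y) :
    (closure (pullback.fst f g ⁻¹' Z ∩ pullback.snd f g ⁻¹' {genericPoint (Spec (CommRingCat.of A))}) ∩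
      (pullback.fst f g ⁻¹' Z ∩ pullback.snd f g ⁻¹' {closedPoint A})).Nonempty := by
  by_contra hne
  have hZim : ∀ t, g t ∈ f '' Z := fun t => by
    obtain ⟨x, hx, hfx, -⟩ := D.comp (g t) (((specializes_closedPoint t).map g.continuous).trans hg)
    exact ⟨x, hx, hfx⟩
  have hη : closedPoint A ≠ genericPoint (Spec (CommRingCat.of A)) := fun h =>
    IsDiscreteValuationRing.not_a_field A
      (by rw [genericPoint_eq_bot_of_affine] at h; exact congrArg PrimeSpectrum.asIdeal h)
  obtain ⟨V, hV, hVE⟩ := D.subm _ g {closedPoint A} (fun t _ => hZim t)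
    ⟨_, isClosed_closure.isOpen_compl, Set.ext fun p => ⟨fun ⟨h1, h2⟩ =>
      ⟨(GenLen5.eq_closedPoint_or_generic (pullback.snd f g p)).resolve_right
        fun h => h1 (subset_closure ⟨h2, h⟩), h2⟩, fun ⟨h1, h2⟩ =>
      ⟨fun h => hne ⟨p, h, h2, h1⟩, h2⟩⟩⟩
  have h0 : closedPoint A ∈ V := (hVE.ge rfl).1
  have h2 : genericPoint (Spec (CommRingCat.of A)) ∈ ({closedPoint A} : Set _) :=
    (Set.ext_iff.1 hVE _).1 ⟨(genericPoint_specializes (closedPoint A)).mem_open hV h0, hZim _⟩
  exact hη h2.symm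

variable [IsSeparated f] [LocallyOfFiniteType f]

/-- The closed piece is proper when the closed point goes to `y`. -/
theorem propOn_closed [IsLocalRing A] (D : CompData f Z y) (g : Spec (CommRingCat.of A) ⟶ Y)
    (hg : g (closedPoint A) = y) :
    PropOn (pullback.snd f g) (pullback.fst f g ⁻¹' Z ∩ pullback.snd f g ⁻¹' {closedPoint A}) ∧
      ∃ O : Set ↥(pullback f g), IsOpen O ∧ O ∩ pullback.snd f g ⁻¹' {closedPoint A} =
        pullback.fst f g ⁻¹' Z ∩ pullback.snd f g ⁻¹' {closedPoint A} := by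
  have hfst : ∀ p ∈ pullback.snd f g ⁻¹' {closedPoint A}, f (pullback.fst f g p) = y := fun p hp => by
    rw [← Scheme.Hom.comp_apply, pullback.condition, Scheme.Hom.comp_apply, show pullback.snd f g p = _ from hp, hg]
  let i : Spec (CommRingCat.of (ResidueField A)) ⟶ Spec (CommRingCat.of A) :=
    Spec.map (CommRingCat.ofHom (residue A))
  haveI : IsClosedImmersion i := IsClosedImmersion.spec_of_surjective _ residue_surjective
  have hipt : pt i = closedPoint A := by
    apply PrimeSpectrum.ext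
    show Ideal.comap (residue A) (maximalIdeal (ResidueField A)) = maximalIdeal A
    rw [isField_iff_maximalIdeal_eq.1 (Field.toIsField _), ← RingHom.ker_eq_comap_bot, ker_residue]
  have hi : Set.range i = {closedPoint A} := by
    ext t
    exact ⟨fun ⟨s, hs⟩ => hs ▸ (congrArg i (Subsingleton.elim s (closedPoint _))).trans hipt,
      fun h => ⟨_, hipt.trans h.symm⟩⟩
  obtain ⟨a, ha⟩ : ∃ a, Spec.map a ≫ Y.fromSpecResidueField y = i ≫ g := by
    have h := S4978.exists_residueHom (i ≫ g)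
    rwa [show pt (i ≫ g) = y from (congrArg g hipt).trans hg] at h
  haveI := D.proper
  let W : (f.fiber y).Opens := ⟨(f.fiberι y).base ⁻¹' Z, D.hop⟩
  have hrange : Set.range (W.ι ≫ f.fiberι y) = Z ∩ f ⁻¹' {y} := by
    rw [Scheme.Hom.comp_base, TopCat.coe_comp, Set.range_comp, Scheme.Opens.range_ι]
    show _ '' (_ ⁻¹' Z) = _
    rw [Set.image_preimage_eq_inter_range, f.range_fiberι]
  have key := propOn_of_piece f g i (W.ι ≫ f.fiberι y) (W.ι ≫ f.fiberToSpecResidueField y)
    (Y.fromSpecResidueField y) (by rw [Category.assoc, Category.assoc]; exact congrArg (W.ι ≫ ·) pullback.condition.symm)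
    (Spec.map a) ha
  refine ⟨?_, ?_⟩
  · convert key using 1
    rw [hrange, hi]
    ext p
    exact ⟨fun ⟨h1, h2⟩ => ⟨⟨h1, hfst p h2⟩, h2⟩, fun ⟨h1, h2⟩ => ⟨h1.1, h2⟩⟩
  · obtain ⟨O, hO, hOZ⟩ := (f.fiberι y).isEmbedding.isInducing.isOpen_iff.1 D.hop
    refine ⟨pullback.fst f g ⁻¹' O, hO.preimage (pullback.fst f g).continuous, Set.ext fun p => ?_⟩
    refine and_congr_left fun hp => ?_
    obtain ⟨v, hv⟩ := (f.range_fiberι y).ge (hfst p hp)
    show pullback.fst f g p ∈ O ↔ pullback.fst f g p ∈ Z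
    rw [← hv]
    exact Set.ext_iff.1 hOZ v

end CompData

/-- Values in the fraction field which lie in the completion lie in the ring. -/
theorem exists_eq_algebraMap {A : Type u} [CommRing A] [IsDomain A] {B : Type u} [CommRing B] [Algebra A B]
    [Module.FaithfullyFlat A B] {K : Type u} [Field K] [Algebra A K] [IsFractionRing A K] {L : Type u} [Field L]
    [Algebra B L] [FaithfulSMul B L] (θ : K →+* L)
    (hθ : θ.comp (algebraMap A K) = (algebraMap B L).comp (algebraMap A B)) (r : K) (c : B)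
    (h : θ r = algebraMap B L c) : ∃ d : A, algebraMap A K d = r := by
  obtain ⟨a, b, hb, rfl⟩ := IsFractionRing.div_surjective (A := A) r
  have hb0 : algebraMap A K b ≠ 0 := IsFractionRing.to_map_ne_zero_of_mem_nonZeroDivisors hb
  have h2 : θ (algebraMap A K a) = algebraMap B L c * θ (algebraMap A K b) := by
    rw [← h, ← map_mul, div_mul_cancel₀ _ hb0]
  rw [← RingHom.comp_apply, ← RingHom.comp_apply, hθ, RingHom.comp_apply, RingHom.comp_apply, ← map_mul] at h2
  have h3 := FaithfulSMul.algebraMap_injective B L h2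
  have h5 : a ∈ Ideal.span {b} := by
    rw [← Ideal.comap_map_eq_self_of_faithfullyFlat (B := B) (Ideal.span {b}), Ideal.mem_comap, h3, Ideal.map_span,
      Set.image_singleton]
    exact Ideal.mul_mem_left _ _ (Ideal.mem_span_singleton_self _)
  obtain ⟨d, rfl⟩ := Ideal.mem_span_singleton'.1 h5
  exact ⟨d, by rw [eq_div_iff hb0, map_mul]⟩

section Main

variable (f : X ⟶ Y) [IsSeparated f] [LocallyOfFiniteType f] [QuasiCompact f] (Z : Set X) (y : Y)

/-- Field valued points of `Z` extend over complete traits at `y`. -/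
theorem exists_lift_complete (D : CompData f Z y) (B : Type u) [CommRing B] [IsDomain B] [IsDiscreteValuationRing B]
    [IsAdicComplete (maximalIdeal B) B] {L : Type u} [Field L] [Algebra B L] [IsFractionRing B L]
    (g : Spec (CommRingCat.of B) ⟶ Y) (hg : g (closedPoint B) = y) (x : Spec (CommRingCat.of L) ⟶ X)
    (hxZ : pt x ∈ Z) (hx : x ≫ f = Spec.map (CommRingCat.ofHom (algebraMap B L)) ≫ g) :
    ∃ lB : Spec (CommRingCat.of B) ⟶ X,
      Spec.map (CommRingCat.ofHom (algebraMap B L)) ≫ lB = x ∧ lB ≫ f = g := by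
  let τ : Spec (CommRingCat.of L) ⟶ Spec (CommRingCat.of B) := Spec.map (CommRingCat.ofHom (algebraMap B L))
  let σ : Spec (CommRingCat.of L) ⟶ pullback f g := pullback.lift x τ hx
  let η := genericPoint (Spec (CommRingCat.of B))
  let G := pullback.fst f g ⁻¹' Z ∩ pullback.snd f g ⁻¹' {η}
  have hσ : pt σ ∈ G := by
    refine ⟨?_, ?_⟩
    · show (σ ≫ pullback.fst f g) (closedPoint L) ∈ Z
      rw [pullback.lift_fst]
      exact hxZ
    · show (σ ≫ pullback.snd f g) (closedPoint L) ∈ ({η} : Set _)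
      rw [pullback.lift_snd]
      exact S4978.pt_generic (K := L) B
  have hgη : g η ⤳ y := hg ▸ (genericPoint_specializes (closedPoint B)).map g.continuous
  have hfst : ∀ p ∈ G, ∀ q, pullback.snd f g q = pullback.snd f g p →
      f (pullback.fst f g q) = f (pullback.fst f g p) ∧ f (pullback.fst f g p) ⤳ y := fun p hp q hq => by
    constructor
    · simp only [← Scheme.Hom.comp_apply, pullback.condition]
      simp only [Scheme.Hom.comp_apply, hq]
    · rw [← Scheme.Hom.comp_apply, pullback.condition, Scheme.Hom.comp_apply, show pullback.snd f g p = η from hp.2]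
      exact hgη
  obtain ⟨hS, hSo⟩ := D.propOn_closed g hg
  obtain ⟨hP, -⟩ := propOn_closure_of_connected (pullback.snd f g) hS hSo (G := G) (D.isPreconnected_generic g hgη)
    (fun p hp q hq hpq => ⟨(D.mem_iff_of_specializes (hfst p hp q hq).2 (hfst p hp q hq).1.symm
      (hpq.map (pullback.fst f g).continuous)).1 hp.1, hq.trans hp.2⟩)
    (fun p hp q hq hqp => ⟨(D.mem_iff_of_specializes ((hfst p hp q hq).1 ▸ (hfst p hp q hq).2) (hfst p hp q hq).1
      (hqp.map (pullback.fst f g).continuous)).2 hp.1, hq.trans hp.2⟩)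
    (fun p hp q hq => hp.2.trans hq.2.symm) (D.exists_mem_closure_generic g (hg ▸ specializes_rfl)) hσ
  haveI := hP.isProper
  obtain ⟨m, hm⟩ := S4978.exists_factor_of_mem_range (redIdeal hP.isClosed).subschemeι σ
    (by rw [range_redι]; exact subset_closure rfl)
  have hsq : CommSq m τ ((redIdeal hP.isClosed).subschemeι ≫ pullback.snd f g) (𝟙 _) := ⟨by
    rw [reassoc_of% hm, pullback.lift_snd, Category.comp_id]⟩
  have hex : ValuativeCriterion.Existence ((redIdeal hP.isClosed).subschemeι ≫ pullback.snd f g) := by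
    have h : @UniversallyClosed _ _ ((redIdeal hP.isClosed).subschemeι ≫ pullback.snd f g) := inferInstance
    rw [UniversallyClosed.eq_valuativeCriterion] at h
    exact h.1
  obtain ⟨l, hl1, hl2⟩ := (hex { R := B, K := L, commSq := hsq, .. }).exists_lift
  let lB := l ≫ (redIdeal hP.isClosed).subschemeι ≫ pullback.fst f g
  have hlB1 : τ ≫ lB = x := by
    show τ ≫ l ≫ _ ≫ _ = _
    rw [reassoc_of% (show τ ≫ l = m from hl1), reassoc_of% hm, pullback.lift_fst]
  have hlB2 : lB ≫ f = g := by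
    show (l ≫ _ ≫ _) ≫ f = g
    rw [Category.assoc, Category.assoc, pullback.condition, reassoc_of% hl2]
  exact ⟨lB, hlB1, hlB2⟩

omit [IsSeparated f] [LocallyOfFiniteType f] [QuasiCompact f] in
/-- A lift over a faithfully flat local extension of a domain descends. -/
theorem exists_descend {A : Type u} [CommRing A] [IsDomain A] [IsLocalRing A] {B : Type u} [CommRing B] [IsDomain B]
    [IsLocalRing B] [Algebra A B] [IsLocalHom (algebraMap A B)] [Module.FaithfullyFlat A B] {K : Type u} [Field K]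
    [Algebra A K] [IsFractionRing A K] {L : Type u} [Field L] [Algebra B L] [IsFractionRing B L] (θ : K →+* L)
    (hθ : θ.comp (algebraMap A K) = (algebraMap B L).comp (algebraMap A B))
    (g : Spec (CommRingCat.of A) ⟶ Y) (x : Spec (CommRingCat.of K) ⟶ X) (lB : Spec (CommRingCat.of B) ⟶ X)
    (hlB1 : Spec.map (CommRingCat.ofHom (algebraMap B L)) ≫ lB = Spec.map (CommRingCat.ofHom θ) ≫ x)
    (hlB2 : lB ≫ f = Spec.map (CommRingCat.ofHom (algebraMap A B)) ≫ g) :
    ∃ l : Spec (CommRingCat.of A) ⟶ X, l ≫ f = g ∧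
      Spec.map (CommRingCat.ofHom (algebraMap A K)) ≫ l = x := by
  let y := g (closedPoint A)
  let cA : Spec (CommRingCat.of B) ⟶ Spec (CommRingCat.of A) := Spec.map (CommRingCat.ofHom (algebraMap A B))
  let gB := cA ≫ g
  have hgB : gB (closedPoint B) = y := congrArg g (IsLocalRing.comap_closedPoint (algebraMap A B))
  let τ : Spec (CommRingCat.of L) ⟶ Spec (CommRingCat.of B) := Spec.map (CommRingCat.ofHom (algebraMap B L))
  -- descend to `A`
  obtain ⟨W, hW, hlW, -⟩ := exists_isAffineOpen_mem_and_subset (x := lB (closedPoint B)) (U := ⊤) trivial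
  have hlBW : Set.range lB ⊆ Set.range hW.fromSpec := by
    rw [hW.range_fromSpec]
    rintro _ ⟨p, rfl⟩
    exact ((specializes_closedPoint p).map lB.continuous).mem_open W.2 hlW
  let φ := Spec.preimage (IsOpenImmersion.lift hW.fromSpec lB hlBW)
  have hφ : Spec.map φ ≫ hW.fromSpec = lB := by rw [Spec.map_preimage, IsOpenImmersion.lift_fac]
  obtain ⟨ψ, hψ⟩ := exists_hom_of_mem hW x (by
    have e : pt (τ ≫ lB) = pt x := by
      rw [hlB1]
      exact congrArg x (Subsingleton.elim (Spec.map (CommRingCat.ofHom θ) (closedPoint L)) (closedPoint K))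
    rw [← e]
    exact hW.range_fromSpec.le (hlBW ⟨_, rfl⟩))
  have hcomp : ψ ≫ CommRingCat.ofHom θ = φ ≫ CommRingCat.ofHom (algebraMap B L) := hom_unique hW (by
    rw [Spec.map_comp_assoc, Spec.map_comp_assoc, hψ, hφ, ← hlB1])
  have hmem : ∀ r, ψ.hom r ∈ (algebraMap A K).range := fun r => by
    obtain ⟨d, hd⟩ := exists_eq_algebraMap (B := B) θ hθ (ψ.hom r) (φ.hom r)
      (congrArg (fun χ : Γ(X, W) ⟶ CommRingCat.of L => χ.hom r) hcomp)
    exact ⟨d, hd⟩
  let χ : Γ(X, W) ⟶ CommRingCat.of A := CommRingCat.ofHom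
    ((RingEquiv.ofBijective (algebraMap A K).rangeRestrict
      ⟨fun a b h => IsFractionRing.injective A K (congrArg Subtype.val h),
        (algebraMap A K).rangeRestrict_surjective⟩).symm.toRingHom.comp (ψ.hom.codRestrict _ hmem))
  have hχ : χ ≫ CommRingCat.ofHom (algebraMap A K) = ψ := by
    ext r
    exact congrArg Subtype.val ((RingEquiv.ofBijective (algebraMap A K).rangeRestrict
      ⟨fun a b h => IsFractionRing.injective A K (congrArg Subtype.val h),
        (algebraMap A K).rangeRestrict_surjective⟩).apply_symm_apply (ψ.hom.codRestrict _ hmem r))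
  have hχB : χ ≫ CommRingCat.ofHom (algebraMap A B) = φ := by
    ext r
    apply IsFractionRing.injective B L
    have h1 := congrArg (fun χ : Γ(X, W) ⟶ CommRingCat.of L => χ.hom r) hcomp
    rw [← hχ] at h1
    exact (RingHom.congr_fun hθ (χ.hom r)).symm.trans h1
  let lA := Spec.map χ ≫ hW.fromSpec
  have hcA : cA ≫ lA = lB := by
    show cA ≫ Spec.map χ ≫ hW.fromSpec = lB
    rw [← Spec.map_comp_assoc, hχB, hφ]
  refine ⟨lA, ?_, by rw [← hψ, ← hχ, Spec.map_comp_assoc]⟩
  obtain ⟨V, hV, hyV, -⟩ := exists_isAffineOpen_mem_and_subset (x := y) (U := ⊤) trivial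
  have hin : ∀ h : Spec (CommRingCat.of A) ⟶ Y, cA ≫ h = gB →
      ∃ c, h = Spec.map c ≫ hV.fromSpec := fun h hh => by
    have hr : Set.range h ⊆ Set.range hV.fromSpec := by
      rw [hV.range_fromSpec]
      rintro _ ⟨p, rfl⟩
      refine ((specializes_closedPoint p).map h.continuous).mem_open V.2 ?_
      rw [← show cA (closedPoint B) = closedPoint A from IsLocalRing.comap_closedPoint (algebraMap A B),
        ← Scheme.Hom.comp_apply, hh, hgB]
      exact hyV
    exact ⟨Spec.preimage (IsOpenImmersion.lift hV.fromSpec h hr), by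
      rw [Spec.map_preimage, IsOpenImmersion.lift_fac]⟩
  obtain ⟨c₁, hc₁⟩ := hin (lA ≫ f) (by rw [← Category.assoc, hcA, hlB2])
  obtain ⟨c₂, hc₂⟩ := hin g rfl
  have h12 : c₁ ≫ CommRingCat.ofHom (algebraMap A B) = c₂ ≫ CommRingCat.ofHom (algebraMap A B) := by
    apply Spec.map_injective
    rw [← cancel_mono hV.fromSpec, Spec.map_comp_assoc, Spec.map_comp_assoc, ← hc₁, ← hc₂]
    show cA ≫ lA ≫ f = cA ≫ g
    rw [← Category.assoc, hcA, hlB2]
  rw [hc₁, hc₂]
  congr 2
  ext r
  exact FaithfulSMul.algebraMap_injective A B (congrArg (fun χ : Γ(Y, V) ⟶ CommRingCat.of B => χ.hom r) h12)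

/-- Lifting through a complete trait dominating a trait. -/
theorem exists_lift_of_extension (D : CompData f Z y) {A : Type u} [CommRing A] [IsDomain A] [IsLocalRing A]
    (B : Type u) [CommRing B] [IsDomain B] [IsDiscreteValuationRing B] [IsAdicComplete (maximalIdeal B) B]
    [Algebra A B] [IsLocalHom (algebraMap A B)] [Module.FaithfullyFlat A B]
    {K : Type u} [Field K] [Algebra A K] [IsFractionRing A K] (g : Spec (CommRingCat.of A) ⟶ Y)
    (hg : g (closedPoint A) = y) (x : Spec (CommRingCat.of K) ⟶ X) (hxZ : pt x ∈ Z)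
    (hx : x ≫ f = Spec.map (CommRingCat.ofHom (algebraMap A K)) ≫ g) :
    ∃ l : Spec (CommRingCat.of A) ⟶ X, l ≫ f = g ∧
      Spec.map (CommRingCat.ofHom (algebraMap A K)) ≫ l = x := by
  let L := FractionRing B
  have hinj : Function.Injective ((algebraMap B L).comp (algebraMap A B)) :=
    (IsFractionRing.injective B L).comp (FaithfulSMul.algebraMap_injective A B)
  obtain ⟨θ, hθ⟩ : ∃ θ : K →+* L, θ.comp (algebraMap A K) = (algebraMap B L).comp (algebraMap A B) :=
    ⟨IsFractionRing.lift hinj, IsLocalization.lift_comp _⟩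
  let cA : Spec (CommRingCat.of B) ⟶ Spec (CommRingCat.of A) := Spec.map (CommRingCat.ofHom (algebraMap A B))
  have hgB : (cA ≫ g) (closedPoint B) = y := (congrArg g (IsLocalRing.comap_closedPoint (algebraMap A B))).trans hg
  obtain ⟨lB, hlB1, hlB2⟩ := exists_lift_complete f Z y D B (cA ≫ g) hgB (Spec.map (CommRingCat.ofHom θ) ≫ x)
    (by
      show x (Spec.map (CommRingCat.ofHom θ) (closedPoint L)) ∈ Z
      rw [Subsingleton.elim (Spec.map (CommRingCat.ofHom θ) (closedPoint L)) (closedPoint K)]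
      exact hxZ) (by
    rw [Category.assoc, hx, ← Spec.map_comp_assoc, ← Spec.map_comp_assoc, ← CommRingCat.ofHom_comp,
      ← CommRingCat.ofHom_comp, hθ])
  exact exists_descend f θ hθ g x lB hlB1 hlB2

/-- Field valued points of `Z` extend over traits at `y`. -/
theorem exists_lift (D : CompData f Z y) (A : Type u) [CommRing A] [IsDomain A] [IsDiscreteValuationRing A]
    {K : Type u} [Field K] [Algebra A K] [IsFractionRing A K] (g : Spec (CommRingCat.of A) ⟶ Y)
    (hg : g (closedPoint A) = y) (x : Spec (CommRingCat.of K) ⟶ X) (hxZ : pt x ∈ Z)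
    (hx : x ≫ f = Spec.map (CommRingCat.ofHom (algebraMap A K)) ≫ g) :
    ∃ l : Spec (CommRingCat.of A) ⟶ X, l ≫ f = g ∧
      Spec.map (CommRingCat.ofHom (algebraMap A K)) ≫ l = x := by
  obtain ⟨_, _⟩ := (S0549.result A).1 ⟨inferInstance, inferInstance⟩
  haveI : Module.FaithfullyFlat A (AdicCompletion (maximalIdeal A) A) :=
    Module.FaithfullyFlat.of_flat_of_isLocalHom
  exact exists_lift_of_extension f Z y D (AdicCompletion (maximalIdeal A) A) g hg x hxZ hx

variable [IsLocallyNoetherian Y]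

/-- The closure is proper near `y`. -/
theorem exists_proper_closure (D : CompData f Z y) (hZ : IsLocallyConstructible Z) :
    ∃ U : Y.Opens, y ∈ U ∧ IsProper ((redIdeal (X := ((f ⁻¹ᵁ U) : Scheme.{u}))
      (C := (f ⁻¹ᵁ U).ι.base ⁻¹' closure Z) (isClosed_closure.preimage (f ⁻¹ᵁ U).ι.continuous)).subschemeι ≫
        (f ∣_ U)) := by
  obtain ⟨U, hU, hy, -⟩ := exists_isAffineOpen_mem_and_subset (x := y) (U := ⊤) trivial
  haveI : IsNoetherianRing Γ(Y, U) := IsLocallyNoetherian.component_noetherian ⟨U, hU⟩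
  let f₀ := affPart f hU
  haveI : ((f ⁻¹ᵁ U) : Scheme.{u}).IsSeparated :=
    ⟨by rw [← CategoryTheory.Limits.terminal.comp_from f₀]; infer_instance⟩
  let C₀ : Set ↥(f ⁻¹ᵁ U) := (f ⁻¹ᵁ U).ι.base ⁻¹' closure Z
  have hC₀ : IsClosed C₀ := isClosed_closure.preimage (f ⁻¹ᵁ U).ι.continuous
  obtain ⟨g₀, hg₀, hlifts⟩ := exists_notMem_forall_lifts_inter f₀ (hU.primeIdealOf ⟨y, hy⟩) ∅ C₀ hC₀
    (fun L _ σ V _ hmem hρ hc => by
      obtain ⟨ζ, hζC, hζ, hmax⟩ := S4978.exists_maximal _ isClosed_closure _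
        (show (f ⁻¹ᵁ U).ι (pt σ) ∈ closure Z from hmem)
      have hζU : ζ ∈ f ⁻¹ᵁ U := hζ.mem_open (f ⁻¹ᵁ U).2 (pt σ).2
      have hsp : (⟨ζ, hζU⟩ : ↥(f ⁻¹ᵁ U)) ⤳ pt σ := Topology.IsInducing.subtypeVal.specializes_iff.1 hζ
      refine lifts_of_generization f₀ (hU.primeIdealOf ⟨y, hy⟩)
        (Scheme.fromSpecResidueField ((f ⁻¹ᵁ U) : Scheme.{u}) (⟨ζ, hζU⟩ : ↥(f ⁻¹ᵁ U))) (fun V' h1 h2 => ?_) σ
        ((specializes_of_eq (Scheme.fromSpecResidueField_apply _ _)).trans hsp) V hρ hc
      refine lifts_of_dvr f₀ _ _ (fun W hW h1 h2 => ?_) V' h1 h2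
      haveI := hW
      generalize hξ : pt (Scheme.fromSpecResidueField ((f ⁻¹ᵁ U) : Scheme.{u}) (⟨ζ, hζU⟩ : ↥(f ⁻¹ᵁ U))) = ξ at W hW h1 h2 ⊢
      refine S4978.lifts_affPart f Z y hU hy (fun A _ _ _ K _ _ _ g hg x hxZ hx =>
        exists_lift f Z y D A g hg x hxZ hx) _ ?_ W h1 h2
      have : ξ = ⟨ζ, hζU⟩ := hξ.symm.trans (Scheme.fromSpecResidueField_apply _ _)
      show (f ⁻¹ᵁ U).ι (Scheme.fromSpecResidueField ((f ⁻¹ᵁ U) : Scheme.{u}) ξ (closedPoint _)) ∈ Z
      erw [Scheme.fromSpecResidueField_apply, this]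
      obtain ⟨w, hw, hwζ⟩ := ProConsDesc12.exists_specializes_of_mem_closure
        (ConsTop3.isProConstructible_of_isLocallyConstructible hZ) hζC
      exact hmax w (subset_closure hw) (specializes_iff_mem_closure.1 hwζ) ▸ hw)
  let U' : Y.Opens := hU.fromSpec ''ᵁ bOpen g₀
  have hC : IsClosed ((f ⁻¹ᵁ U').ι.base ⁻¹' closure Z) := isClosed_closure.preimage (f ⁻¹ᵁ U').ι.continuous
  refine ⟨U', ⟨hU.primeIdealOf ⟨y, hy⟩, hg₀, hU.fromSpec_primeIdealOf _⟩, ?_⟩
  obtain ⟨e, he, hfe⟩ := exists_restrict_iso f hU g₀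
  let S := redIdeal (X := ((f ⁻¹ᵁ U') : Scheme.{u})) hC
  let p : S.subscheme ⟶ ((f₀ ⁻¹ᵁ bOpen g₀) : Scheme.{u}) := S.subschemeι ≫ e.hom
  have hex := existence_comp_of_lifts f₀ g₀ p C₀ (fun t => by
    show (f ⁻¹ᵁ U).ι ((f₀ ⁻¹ᵁ bOpen g₀).ι (e.hom (S.subschemeι t))) ∈ closure Z
    rw [← Scheme.Hom.comp_apply, ← Scheme.Hom.comp_apply, he]
    exact (range_redι hC).le ⟨t, rfl⟩) (fun L _ σ V h1 h2 h3 => hlifts L σ V (by simp) h1 h2 h3)
  haveI : UniversallyClosed (p ≫ (f₀ ∣_ bOpen g₀)) := UniversallyClosed.of_valuativeCriterion _ hex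
  haveI : LocallyOfFiniteType (f₀ ∣_ bOpen g₀) :=
    IsZariskiLocalAtTarget.restrict (P := @LocallyOfFiniteType) inferInstance _
  haveI : IsProper (p ≫ (f₀ ∣_ bOpen g₀)) := ⟨⟩
  have : S.subschemeι ≫ (f ∣_ U') = (p ≫ (f₀ ∣_ bOpen g₀)) ≫ (hU.fromSpec.isoImage (bOpen g₀)).hom := by
    rw [hfe]; simp [p, f₀, Category.assoc]
  rw [this]
  infer_instance

/-- The step over one complete trait. -/
theorem mem_of_trait (D : CompData f Z y) {U : Y.Opens}
    (hp : IsProper ((redIdeal (X := ((f ⁻¹ᵁ U) : Scheme.{u})) (C := (f ⁻¹ᵁ U).ι.base ⁻¹' closure Z)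
      (isClosed_closure.preimage (f ⁻¹ᵁ U).ι.continuous)).subschemeι ≫ (f ∣_ U))) (hyU : y ∈ U) {x z : X}
    (hxy : f x ⤳ y) (hzy : f z ⤳ y) (hzZ : z ∈ Z) (B : Type u) [CommRing B] [IsDomain B]
    [IsDiscreteValuationRing B] [IsAdicComplete (maximalIdeal B) B] (l : Spec (CommRingCat.of B) ⟶ X)
    (g : Spec (CommRingCat.of B) ⟶ Y) (hlg : l ≫ f = g) (hlc : l (closedPoint B) = x)
    (hη : l (genericPoint (Spec (CommRingCat.of B))) = z) : x ∈ Z := by
  let η := genericPoint (Spec (CommRingCat.of B))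
  have hgc : g (closedPoint B) = f x := by rw [← hlg, Scheme.Hom.comp_apply, hlc]
  have hgη : g η = f z := by rw [← hlg, Scheme.Hom.comp_apply, hη]
  -- the closure is proper over the completed trait
  have hU' : ∀ t, g t ∈ U := fun t => ((specializes_closedPoint t).map g.continuous).mem_open U.2
    (by rw [hgc]; exact hxy.mem_open U.2 hyU)
  let a : Spec (CommRingCat.of B) ⟶ (U : Scheme.{u}) := IsOpenImmersion.lift U.ι g (by
    rw [Scheme.Opens.range_ι]; rintro _ ⟨t, rfl⟩; exact hU' t)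
  haveI := hp
  have key := propOn_of_piece f g (𝟙 (Spec (CommRingCat.of B))) ((redIdeal (X := ((f ⁻¹ᵁ U) : Scheme.{u}))
      (C := (f ⁻¹ᵁ U).ι.base ⁻¹' closure Z) (isClosed_closure.preimage (f ⁻¹ᵁ U).ι.continuous)).subschemeι ≫
        (f ⁻¹ᵁ U).ι) ((redIdeal (X := ((f ⁻¹ᵁ U) : Scheme.{u}))
      (C := (f ⁻¹ᵁ U).ι.base ⁻¹' closure Z) (isClosed_closure.preimage (f ⁻¹ᵁ U).ι.continuous)).subschemeι ≫ (f ∣_ U)) U.ι (by simp only [Category.assoc, morphismRestrict_ι]) a
    (by rw [Category.id_comp]; exact IsOpenImmersion.lift_fac _ _ _)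
  let P := pullback.fst f g ⁻¹' closure Z
  have hP : PropOn (pullback.snd f g) P := by
    convert key using 1
    rw [Scheme.Hom.comp_base (f := (redIdeal _).subschemeι), TopCat.coe_comp, Set.range_comp, range_redι]
    refine Set.ext fun p => ⟨fun hp' => ⟨?_, pullback.snd f g p, rfl⟩, fun hp' => ?_⟩
    · have hmem : pullback.fst f g p ∈ f ⁻¹ᵁ U := by
        show f (pullback.fst f g p) ∈ U
        rw [← Scheme.Hom.comp_apply, pullback.condition]
        exact hU' _
      exact ⟨⟨_, hmem⟩, hp', rfl⟩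
    · obtain ⟨⟨v, hv, hvp⟩, -⟩ := hp'
      show pullback.fst f g p ∈ closure Z
      rw [← hvp]
      exact hv
  let G := pullback.fst f g ⁻¹' Z ∩ pullback.snd f g ⁻¹' {η}
  let σ : Spec (CommRingCat.of B) ⟶ pullback f g := pullback.lift (l) (𝟙 _) (by
    rw [Category.id_comp]; exact hlg)
  have hσ1 : ∀ t, pullback.fst f g (σ t) = l t := fun t => by
    rw [← Scheme.Hom.comp_apply, pullback.lift_fst]
  have hσ2 : ∀ t, pullback.snd f g (σ t) = t := fun t => by
    rw [← Scheme.Hom.comp_apply, pullback.lift_snd]; rfl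
  have hσG : σ η ∈ G := ⟨show pullback.fst f g (σ η) ∈ Z by rw [hσ1, hη]; exact hzZ, hσ2 η⟩
  have hσc : σ (closedPoint B) ∈ closure G :=
    ((genericPoint_specializes (closedPoint B)).map σ.continuous).mem_closed isClosed_closure (subset_closure hσG)
  have hcon := (hP.mono isClosed_closure (closure_minimal (fun p hp => subset_closure hp.1)
    (isClosed_closure.preimage (pullback.fst f g).continuous))).isPreconnected_closedFibre
    (D.isPreconnected_generic g (hgη ▸ hzy)).closure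
  obtain ⟨p, hpc, hpZ, hpf⟩ := D.exists_mem_closure_generic g (hgc ▸ hxy)
  have himg := hcon.image _ (pullback.fst f g).continuous.continuousOn
  have hxp : x ∈ pullback.fst f g '' (closure G ∩ pullback.snd f g ⁻¹' {closedPoint B}) :=
    ⟨σ (closedPoint B), ⟨hσc, hσ2 _⟩, by rw [hσ1, hlc]⟩
  have hsub : pullback.fst f g '' (closure G ∩ pullback.snd f g ⁻¹' {closedPoint B}) ⊆ f ⁻¹' {f x} := by
    rintro _ ⟨r, ⟨-, hr⟩, rfl⟩
    show f (pullback.fst f g r) = f x
    rw [← Scheme.Hom.comp_apply, pullback.condition, Scheme.Hom.comp_apply,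
      show pullback.snd f g r = closedPoint B from hr, hgc]
  obtain ⟨c, -, -, hZc⟩ := D.comp (f x) hxy
  have hp' : pullback.fst f g p ∈ connectedComponentIn (f ⁻¹' {f x}) c :=
    hZc.le ⟨hpZ, hsub ⟨p, ⟨hpc, hpf⟩, rfl⟩⟩
  rw [connectedComponentIn_eq hp'] at hZc
  exact (hZc.ge (himg.subset_connectedComponentIn ⟨p, ⟨hpc, hpf⟩, rfl⟩ hsub hxp)).1

/-- Over the properness locus the closure adds nothing in the fibres above `y`. -/
theorem mem_of_mem_closure (D : CompData f Z y) (hZ : IsLocallyConstructible Z) {U : Y.Opens}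
    (hp : IsProper ((redIdeal (X := ((f ⁻¹ᵁ U) : Scheme.{u})) (C := (f ⁻¹ᵁ U).ι.base ⁻¹' closure Z)
      (isClosed_closure.preimage (f ⁻¹ᵁ U).ι.continuous)).subschemeι ≫ (f ∣_ U))) (hyU : y ∈ U) {x : X}
    (hx : x ∈ closure Z) (hxy : f x ⤳ y) : x ∈ Z := by
  haveI : IsLocallyNoetherian X := LocallyOfFiniteType.isLocallyNoetherian f
  obtain ⟨z, hzZ, hzx⟩ := ProConsDesc12.exists_specializes_of_mem_closure
    (ConsTop3.isProConstructible_of_isLocallyConstructible hZ) hx
  have hzy : f z ⤳ y := (hzx.map f.continuous).trans hxy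
  by_cases hne : f z = f x
  · exact (D.mem_iff_of_specializes hzy hne hzx).1 hzZ
  obtain ⟨A, l, hA, hlc, hlg⟩ := DVRVal.exists_dvr_specializes (𝟙 X) z x
    (show (𝟙 X : X ⟶ X) z ⤳ x from hzx) (fun h => hne (congrArg f (show x = z from h)).symm)
  haveI := hA
  let B := AdicCompletion (maximalIdeal A) A
  obtain ⟨_, _⟩ := (S0549.result A).1 ⟨inferInstance, hA⟩
  haveI : Module.FaithfullyFlat A B := Module.FaithfullyFlat.of_flat_of_isLocalHom
  let cA : Spec (CommRingCat.of B) ⟶ Spec (CommRingCat.of A) := Spec.map (CommRingCat.ofHom (algebraMap A B))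
  let η := genericPoint (Spec (CommRingCat.of B))
  have hcl : cA (closedPoint B) = closedPoint A := IsLocalRing.comap_closedPoint (algebraMap A B)
  have hη : l (cA η) = z := by
    have e : cA η = pt (Spec.map (CommRingCat.ofHom A.subtype)) := by
      apply PrimeSpectrum.ext
      show Ideal.comap (algebraMap A B) η.asIdeal = Ideal.comap A.subtype (maximalIdeal _)
      rw [show η = ⟨⊥, Ideal.isPrime_bot⟩ from genericPoint_eq_bot_of_affine _,
        isField_iff_maximalIdeal_eq.1 (Field.toIsField _), ← RingHom.ker_eq_comap_bot, ← RingHom.ker_eq_comap_bot,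
        (RingHom.injective_iff_ker_eq_bot _).1 (FaithfulSMul.algebraMap_injective A B),
        (RingHom.injective_iff_ker_eq_bot _).1 (fun a b h => Subtype.ext h)]
    rw [e]
    show (Spec.map (CommRingCat.ofHom A.subtype) ≫ l) (closedPoint _) = z
    rw [hlg, Category.comp_id]
    exact Scheme.fromSpecResidueField_apply _ _
  exact mem_of_trait f Z y D hp hyU hxy hzy hzZ B (cA ≫ l) (cA ≫ l ≫ f) (Category.assoc _ _ _)
    (by rw [Scheme.Hom.comp_apply, hcl, hlc]) (by rw [Scheme.Hom.comp_apply]; exact hη)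

/-- A closed set of a locally Noetherian scheme is locally constructible. -/
theorem isLocallyConstructible_of_isClosed {X : Scheme.{u}} [IsLocallyNoetherian X] {C : Set X} (hC : IsClosed C) :
    IsLocallyConstructible C := by
  intro p
  obtain ⟨U, hU, hpU, -⟩ := exists_isAffineOpen_mem_and_subset (U := (⊤ : X.Opens)) (x := p) trivial
  haveI : IsNoetherianRing Γ(X, U) := IsLocallyNoetherian.component_noetherian ⟨U, hU⟩
  haveI : NoetherianSpace (U : Set X) := noetherianSpace_of_isAffineOpen U hU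
  refine ⟨U, U.isOpen.mem_nhds hpU, U.isOpen, isConstructible_compl.1 ?_⟩
  exact IsRetrocompact.isConstructible ((hC.preimage continuous_subtype_val).isOpen_compl)
    (fun _ _ _ => NoetherianSpace.isCompact _)

/-- **EGA IV 15.7.9**: properness at `y`. -/
theorem exists_proper_nhd (D : CompData f Z y) (hZ : IsLocallyConstructible Z) :
    ∃ U : Y.Opens, y ∈ U ∧ ∃ hC : IsClosed ((f ⁻¹ᵁ U).ι.base ⁻¹' Z),
      IsProper ((Scheme.IdealSheafData.vanishingIdeal
        (⟨(f ⁻¹ᵁ U).ι.base ⁻¹' Z, hC⟩ : TopologicalSpace.Closeds ↥(f ⁻¹ᵁ U))).subschemeι ≫ (f ∣_ U)) := by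
  haveI : IsLocallyNoetherian X := LocallyOfFiniteType.isLocallyNoetherian f
  haveI : LocallyOfFinitePresentation f := LimH13.locallyOfFinitePresentation_of_noetherian f
  obtain ⟨U₁, hy₁, hp⟩ := exists_proper_closure f Z y D hZ
  have hcZ : IsLocallyConstructible (closure Z ∩ Zᶜ) :=
    IsLocallyConstructible.inter (isLocallyConstructible_of_isClosed isClosed_closure)
      (AnPtsTop.isLocallyConstructible_compl hZ)
  have hB : y ∉ closure (f '' (closure Z ∩ Zᶜ)) := fun h => by
    obtain ⟨b, ⟨x, ⟨hx, hxn⟩, rfl⟩, hxy⟩ := ProConsDesc12.exists_specializes_of_mem_closure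
      (ConsTop3.isProConstructible_of_isLocallyConstructible (f.isLocallyConstructible_image hcZ)) h
    exact hxn (mem_of_mem_closure f Z y D hZ hp hy₁ hx hxy)
  let U : Y.Opens := U₁ ⊓ ⟨(closure (f '' (closure Z ∩ Zᶜ)))ᶜ, isClosed_closure.isOpen_compl⟩
  have hle : U ≤ U₁ := inf_le_left
  have heq : (f ⁻¹ᵁ U).ι.base ⁻¹' Z = (f ⁻¹ᵁ U).ι.base ⁻¹' closure Z := by
    refine subset_antisymm (Set.preimage_mono subset_closure) fun x hx => ?_
    by_contra hn
    exact x.2.2 (subset_closure ⟨_, ⟨hx, hn⟩, rfl⟩)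
  have hC : IsClosed ((f ⁻¹ᵁ U).ι.base ⁻¹' Z) := heq ▸ isClosed_closure.preimage (f ⁻¹ᵁ U).ι.continuous
  refine ⟨U, ⟨hy₁, hB⟩, hC, ?_⟩
  haveI := hp
  let C₁ := redIdeal (X := ((f ⁻¹ᵁ U₁) : Scheme.{u})) (C := (f ⁻¹ᵁ U₁).ι.base ⁻¹' closure Z)
    (isClosed_closure.preimage (f ⁻¹ᵁ U₁).ι.continuous)
  let a : (U : Scheme.{u}) ⟶ U₁ := Y.homOfLE hle
  let k : ((f ⁻¹ᵁ U) : Scheme.{u}) ⟶ (f ⁻¹ᵁ U₁) := X.homOfLE (fun x hx => hle hx)
  have hk : k ≫ (f ∣_ U₁) = (f ∣_ U) ≫ a := by
    rw [← cancel_mono U₁.ι, Category.assoc, Category.assoc, morphismRestrict_ι, Scheme.homOfLE_ι_assoc,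
      Scheme.homOfLE_ι, morphismRestrict_ι]
  let i := (redIdeal (X := ((f ⁻¹ᵁ U) : Scheme.{u})) hC).subschemeι
  obtain ⟨m, hm⟩ := exists_factor (Z := (redIdeal (X := ((f ⁻¹ᵁ U) : Scheme.{u})) hC).subscheme)
    (isClosed_closure.preimage (f ⁻¹ᵁ U₁).ι.continuous) (i ≫ k) (by
      rintro _ ⟨t, rfl⟩
      show (f ⁻¹ᵁ U₁).ι (k (i t)) ∈ closure Z
      rw [← Scheme.Hom.comp_apply, Scheme.homOfLE_ι]
      exact subset_closure ((range_redι hC).le ⟨t, rfl⟩))
  have hcond : m ≫ C₁.subschemeι ≫ (f ∣_ U₁) = (i ≫ (f ∣_ U)) ≫ a := by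
    rw [reassoc_of% hm, hk, Category.assoc]
  let n := pullback.lift m (i ≫ (f ∣_ U)) hcond
  have hn : n ≫ pullback.snd (C₁.subschemeι ≫ (f ∣_ U₁)) a = i ≫ (f ∣_ U) := pullback.lift_snd _ _ _
  haveI : IsClosedImmersion n := by
    haveI : IsPreimmersion (n ≫ pullback.fst (C₁.subschemeι ≫ (f ∣_ U₁)) a ≫ C₁.subschemeι) := by
      rw [pullback.lift_fst_assoc, hm]; infer_instance
    haveI : IsPreimmersion n := IsPreimmersion.of_comp n (pullback.fst (C₁.subschemeι ≫ (f ∣_ U₁)) a ≫ C₁.subschemeι)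
    refine IsClosedImmersion.of_isPreimmersion n ?_
    have : Set.range n = Set.univ := Set.eq_univ_of_forall fun r => by
      have hrU : (f ⁻¹ᵁ U₁).ι (C₁.subschemeι (pullback.fst (C₁.subschemeι ≫ (f ∣_ U₁)) a r)) ∈ f ⁻¹ᵁ U := by
        show f ((f ⁻¹ᵁ U₁).ι _) ∈ U
        rw [← Scheme.Hom.comp_apply, ← morphismRestrict_ι, ← Scheme.Hom.comp_apply, ← Scheme.Hom.comp_apply,
          show pullback.fst (C₁.subschemeι ≫ (f ∣_ U₁)) a ≫ C₁.subschemeι ≫ (f ∣_ U₁) ≫ U₁.ι =
            pullback.snd _ _ ≫ U.ι by rw [← Scheme.homOfLE_ι (X := Y) hle]; simpa only [Category.assoc] using congrArg (· ≫ U₁.ι) (pullback.condition (f := C₁.subschemeι ≫ (f ∣_ U₁)) (g := a)),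
          Scheme.Hom.comp_apply]
        exact (pullback.snd (C₁.subschemeι ≫ (f ∣_ U₁)) a r).2
      have hrC : (⟨_, hrU⟩ : ↥(f ⁻¹ᵁ U)) ∈ (f ⁻¹ᵁ U).ι.base ⁻¹' Z := heq.ge
        ((range_redι (isClosed_closure.preimage (f ⁻¹ᵁ U₁).ι.continuous)).le ⟨_, rfl⟩)
      obtain ⟨t, ht⟩ := (range_redι hC).ge hrC
      refine ⟨t, ((pullback.fst (C₁.subschemeι ≫ (f ∣_ U₁)) a ≫ C₁.subschemeι).isEmbedding.injective
        ((f ⁻¹ᵁ U₁).ι.isEmbedding.injective ?_))⟩
      rw [← Scheme.Hom.comp_apply, ← Scheme.Hom.comp_apply]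
      simp only [n, Category.assoc, pullback.lift_fst_assoc, reassoc_of% hm, k, Scheme.homOfLE_ι]
      erw [reassoc_of% hm]
      simp only [k, Category.assoc, Scheme.homOfLE_ι, Scheme.Hom.comp_apply]
      rw [show i t = _ from ht]
      rfl
    rw [this]
    exact isClosed_univ
  show IsProper (i ≫ (f ∣_ U))
  rw [← hn]
  infer_instance

end Main

end Groth.Agent.ZConn5
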