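import Groth.Agent.S0003
import Groth.Agent.Lib.FormalH7.ModSec
import Groth.Agent.Lib.FormalH7.ModLim
import Groth.Agent.Lib.ModM1.Coh
import Groth.Agent.Lib.FormalH7.LocFree
import Groth.Agent.Lib.CurveCoh17.Skyscraper
import Groth.Agent.Lib.CohFound.ProperFinite
import Groth.Agent.Lib.Cyc26.Stalk

/-!
Zariski's connectedness theorem over a complete local ring, from the theorem on formal functions: a clopen piece
of the closed fibre extends to a clopen piece of the whole scheme.
-/

universe u

open CategoryTheory CategoryTheory.Limits AlgebraicGeometry TopologicalSpace Opposite IsLocalRing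

set_option backward.isDefEq.respectTransparency false
set_option backward.isDefEq.respectTransparency.types false

namespace Groth.Agent.ZConn5

open Groth.Agent.M1

section Over

variable {A : Type u} [CommRing A] {X : Scheme.{u}} [X.Over (Spec (CommRingCat.of A))]

theorem basicOpen_toGlobal (a : A) :
    X.basicOpen (show Γ(X, ⊤) from Coh.toGlobal (X ↘ Spec (CommRingCat.of A)) a) =
      (X ↘ Spec (CommRingCat.of A)) ⁻¹ᵁ PrimeSpectrum.basicOpen a := by
  rw [← basicOpen_eq_of_affine (R := CommRingCat.of A) a, Scheme.preimage_basicOpen]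
  rfl

variable [IsLocalRing A]

/-- The germ of an element of the maximal ideal vanishes at the points of the closed fibre. -/
theorem stalkIdeal_le_maximalIdeal {x : X} (hx : (X ↘ Spec (CommRingCat.of A)) x = closedPoint A)
    {J : Ideal A} (hJ : J ≤ maximalIdeal A) : FormalH7.stalkIdeal J x ≤ maximalIdeal (X.presheaf.stalk x) := by
  rw [FormalH7.stalkIdeal, Ideal.map_le_iff_le_comap]
  intro a ha hu
  have h1 : x ∈ X.basicOpen (show Γ(X, ⊤) from FormalH7.multHom X ⊤ a) :=
    (X.mem_basicOpen (FormalH7.multHom X ⊤ a) x trivial).2 hu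
  rw [FormalH7.multHom_apply, show FormalH7.mult X a ⊤ = Coh.toGlobal (X ↘ Spec (CommRingCat.of A)) a by
    simp [FormalH7.mult], basicOpen_toGlobal] at h1
  change a ∉ ((X ↘ Spec (CommRingCat.of A)) x).asIdeal at h1
  rw [hx] at h1
  exact h1 (hJ ha)

/-- Off the closed fibre the quotients by the powers of the maximal ideal vanish. -/
theorem stalk_modPow_eq_zero {x : X} (hx : (X ↘ Spec (CommRingCat.of A)) x ≠ closedPoint A) (M : X.Modules)
    (n : ℕ) (b : (Formal.modPow (maximalIdeal A) n M).presheaf.stalk x) : b = 0 := by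
  obtain ⟨a, ha, hax⟩ : ∃ a ∈ maximalIdeal A, a ∉ ((X ↘ Spec (CommRingCat.of A)) x).asIdeal := by
    by_contra hc
    push Not at hc
    exact hx (PrimeSpectrum.ext (le_antisymm (le_maximalIdeal ((X ↘ Spec (CommRingCat.of A)) x).isPrime.ne_top) hc))
  obtain ⟨c, rfl⟩ := (M1.epi_iff_stalk (Formal.modPowπ (maximalIdeal A) n M)).1
    (inferInstanceAs (Epi (cokernel.π _))) x b
  have hu : IsUnit (((X.presheaf.germ ⊤ x trivial).hom.comp (FormalH7.multHom X ⊤)) (a ^ n)) := by
    rw [map_pow]
    refine IsUnit.pow n ((X.mem_basicOpen (FormalH7.multHom X ⊤ a) x trivial).1 ?_)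
    rw [FormalH7.multHom_apply, show FormalH7.mult X a ⊤ = Coh.toGlobal (X ↘ Spec (CommRingCat.of A)) a by
      simp [FormalH7.mult], basicOpen_toGlobal]
    exact hax
  obtain ⟨v, hv⟩ := hu
  obtain ⟨d, rfl⟩ : ∃ d, (M1.stalkAb x).map (Formal.smulMod A M (a ^ n)) d = c :=
    ⟨(↑v⁻¹ : X.presheaf.stalk x) • (show M.presheaf.stalk x from c), by
      rw [FormalH7.stalk_smulMod, ← hv, ← mul_smul, Units.mul_inv, one_smul]⟩
  rw [← CategoryTheory.comp_apply, ← Functor.map_comp,
    (FormalH7.smulFamily_comp_eq_zero_iff (Formal.modPowπ (maximalIdeal A) n M)).1 (cokernel.condition _) _ (Ideal.pow_mem_pow ha n),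
    Functor.map_zero]
  rfl

/-- The kernel of the projection to `O/mⁿ` on stalks, in terms of the local ring. -/
theorem mem_stalkIdeal_of_map_eq_zero (n : ℕ) (x : X) (r : X.presheaf.stalk x)
    (h : (M1.stalkAb x).map (Formal.modPowπ (maximalIdeal A) n (Coh.structureModule X))
      (r • (((Coh.structureModule X).presheaf.germ ⊤ x trivial (one ⊤)) : (Coh.structureModule X).presheaf.stalk x)) = 0) :
    r ∈ FormalH7.stalkIdeal (maximalIdeal A ^ n) x := by
  set g : (Coh.structureModule X).presheaf.stalk x := (Coh.structureModule X).presheaf.germ ⊤ x trivial (one ⊤)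
  have hi : IsIso (cokernel.desc (Formal.smulFamily (maximalIdeal A ^ n) (Coh.structureModule X))
      (Formal.modPowπ (maximalIdeal A) n (Coh.structureModule X)) (cokernel.condition _)) := by
    have : cokernel.desc (Formal.smulFamily (maximalIdeal A ^ n) (Coh.structureModule X))
        (Formal.modPowπ (maximalIdeal A) n (Coh.structureModule X)) (cokernel.condition _) = 𝟙 _ := by
      refine coequalizer.hom_ext ?_
      rw [cokernel.π_desc]
      exact (Category.comp_id _).symm
    rw [this]
    exact IsIso.id _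
  have hm := FormalH7.mem_stalk_of_map_eq_zero _ (cokernel.condition _) hi x _ h
  let E : X.presheaf.stalk x ≃ₗ[X.presheaf.stalk x] ((Coh.structureModule X).presheaf.stalk x : Type u) :=
    LinearEquiv.ofBijective (LinearMap.toSpanSingleton _ _ g) (Cyc26.structureModule_stalk_bijective x)
  have h2 : E r ∈ Submodule.map E.toLinearMap (FormalH7.stalkIdeal (maximalIdeal A ^ n) x • ⊤) := by
    rw [Submodule.map_smul'', Submodule.map_top, LinearEquiv.range]
    exact hm
  obtain ⟨r', hr', he⟩ := h2
  obtain rfl := E.injective he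
  rwa [Ideal.smul_eq_mul, Ideal.mul_top] at hr'

end Over

/-- **Connectedness**: over a complete Noetherian local ring a clopen piece of the closed fibre of a proper scheme
is the trace of a clopen set. -/
theorem exists_isClopen {A : Type u} [CommRing A] [IsNoetherianRing A] [IsLocalRing A]
    [IsAdicComplete (maximalIdeal A) A] {X : Scheme.{u}} (f : X ⟶ Spec (CommRingCat.of A)) [IsProper f]
    (U V : Set X) (hU : IsClosed U) (hV : IsClosed V) (hUV : U ∪ V = f ⁻¹' {closedPoint A}) (hd : Disjoint U V) :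
    ∃ W : Set X, IsClopen W ∧ U ⊆ W ∧ Disjoint W V := by
  letI : X.Over (Spec (CommRingCat.of A)) := ⟨f⟩
  haveI : IsProper (X ↘ Spec (CommRingCat.of A)) := inferInstanceAs (IsProper f)
  haveI : IsLocallyNoetherian X := LocallyOfFiniteType.isLocallyNoetherian f
  set M := Coh.structureModule X
  let U' : X.Opens := ⟨Vᶜ, hV.isOpen_compl⟩
  let V' : X.Opens := ⟨Uᶜ, hU.isOpen_compl⟩
  have hcov : (⊤ : X.Opens) ≤ U' ⊔ V' := fun x _ => by
    by_cases hx : x ∈ V
    · exact Or.inr fun hx' => hd.le_bot ⟨hx', hx⟩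
    · exact Or.inl hx
  let π := fun n => Formal.modPowπ (maximalIdeal A) (n + 1) M
  have hglue : ∀ n, ∃ s : Γ(Formal.modPow (maximalIdeal A) (n + 1) M, ⊤),
      mres _ (le_top : U' ≤ ⊤) s = mres _ (le_top : U' ≤ ⊤) ((π n).app ⊤ (one ⊤)) ∧
        mres _ (le_top : V' ≤ ⊤) s = 0 := fun n => by
    let W : Bool → X.Opens := fun b => bif b then U' else V'
    let t : ∀ b, Γ(Formal.modPow (maximalIdeal A) (n + 1) M, W b) := fun b =>
      match b with
      | true => mres _ (le_top : U' ≤ ⊤) ((π n).app ⊤ (one ⊤))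
      | false => 0
    have hsub : Subsingleton Γ(Formal.modPow (maximalIdeal A) (n + 1) M, U' ⊓ V') :=
      subsingleton_of_forall_eq 0 fun c => M1.section_ext _ _ fun z hz => by
        rw [map_zero]
        refine stalk_modPow_eq_zero (fun h => ?_) M (n + 1) _
        rcases (hUV.ge (show z ∈ f ⁻¹' {closedPoint A} from h)) with h' | h'
        · exact hz.2 h'
        · exact hz.1 h'
    have hsub' : Subsingleton Γ(Formal.modPow (maximalIdeal A) (n + 1) M, V' ⊓ U') := inf_comm U' V' ▸ hsub
    obtain ⟨s, hs, -⟩ := TopCat.Sheaf.existsUnique_gluing' ⟨_, (Formal.modPow (maximalIdeal A) (n + 1) M).isSheaf⟩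
      W ⊤ (fun b => homOfLE le_top) (hcov.trans (sup_le (le_iSup W true) (le_iSup W false))) t (fun a b => by
        cases a <;> cases b
        · rfl
        · exact hsub'.elim _ _
        · exact hsub.elim _ _
        · rfl)
    exact ⟨s, hs true, hs false⟩
  choose s hsU hsV using hglue
  let z : ∀ n, Formal.HHmodPow (maximalIdeal A) M 0 n := fun n => (CurveCoh17.hh0 _).symm (s n)
  have hz : z ∈ Formal.HHlim (maximalIdeal A) M 0 := fun n => by
    apply (CurveCoh17.hh0 _).injective
    refine (CurveCoh17.hh0_hmap A (Formal.modPowTrans (maximalIdeal A) (n + 1) M) (z (n + 1))).trans ?_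
    rw [AddEquiv.apply_symm_apply, AddEquiv.apply_symm_apply]
    refine M1.section_ext _ _ fun y hy => ?_
    have hnat : ∀ (W : X.Opens) (hy : y ∈ W) (c : Γ(Formal.modPow (maximalIdeal A) (n + 1 + 1) M, ⊤)),
        (Formal.modPow (maximalIdeal A) (n + 1) M).presheaf.germ ⊤ y trivial
          ((Formal.modPowTrans (maximalIdeal A) (n + 1) M).app ⊤ c) =
        (M1.stalkAb y).map (Formal.modPowTrans (maximalIdeal A) (n + 1) M)
          ((Formal.modPow (maximalIdeal A) (n + 1 + 1) M).presheaf.germ W y hy (mres _ le_top c)) :=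
      fun W hy c => by rw [M1.germ_mres _ le_top hy, M1.germ_naturality]
    rcases hcov hy with hU' | hV'
    · rw [hnat U' hU', hsU, M1.germ_mres _ le_top hU', ← M1.germ_mres _ (le_top : U' ≤ ⊤) hU' (s n), hsU,
        M1.germ_mres _ le_top hU']
      rw [← M1.germ_naturality, ← M1.germ_naturality, ← CategoryTheory.comp_apply, ← Functor.map_comp,
        Formal.modPowπ_trans]
    · rw [hnat V' hV', hsV, map_zero, map_zero, ← M1.germ_mres _ (le_top : V' ≤ ⊤) hV' (s n), hsV, map_zero]
  obtain ⟨w, hw⟩ := (Groth.Agent.S0003.result A (maximalIdeal A) X M (M1.isCoh_structureModule X) 0).2 ⟨z, hz⟩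
  let y : Γ(X, ⊤) := CurveCoh17.hh0 M w
  have hy : ∀ n, (π n).app ⊤ (show Γ(M, ⊤) from y) = s n := fun n => by
    have h1 : Formal.toHHmodPow (maximalIdeal A) M 0 n w = z n := congrFun (congrArg Subtype.val hw) n
    refine (CurveCoh17.hh0_hmap A (π n) w).symm.trans ((congrArg (CurveCoh17.hh0 _) h1).trans ?_)
    exact (CurveCoh17.hh0 _).apply_symm_apply (s n)
  have hgy : ∀ x : X, (M.presheaf.germ ⊤ x trivial (show Γ(M, ⊤) from y) : M.presheaf.stalk x) =
      X.presheaf.germ ⊤ x trivial y • (M.presheaf.germ ⊤ x trivial (one ⊤) : M.presheaf.stalk x) := fun x => by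
    rw [← M1.germ_smul]
    exact congrArg _ (mul_one y).symm
  have kU : ∀ x ∈ U, ∀ n, X.presheaf.germ ⊤ x trivial y - 1 ∈ FormalH7.stalkIdeal (maximalIdeal A ^ (n + 1)) x := by
    intro x hx n
    refine mem_stalkIdeal_of_map_eq_zero (n + 1) x _ ?_
    have hx' : x ∈ U' := fun h => hd.le_bot ⟨hx, h⟩
    rw [sub_smul, one_smul, map_sub, sub_eq_zero, ← hgy, M1.germ_naturality, M1.germ_naturality, hy,
      ← M1.germ_mres _ (le_top : U' ≤ ⊤) hx' (s n), hsU, M1.germ_mres _ le_top hx']
  have kV : ∀ x ∈ V, ∀ n, X.presheaf.germ ⊤ x trivial y ∈ FormalH7.stalkIdeal (maximalIdeal A ^ (n + 1)) x := by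
    intro x hx n
    refine mem_stalkIdeal_of_map_eq_zero (n + 1) x _ ?_
    have hx' : x ∈ V' := fun h => hd.le_bot ⟨h, hx⟩
    rw [← hgy, M1.germ_naturality, hy, ← M1.germ_mres _ (le_top : V' ≤ ⊤) hx' (s n), hsV, map_zero]
  have hle : ∀ x : X, f x = closedPoint A → FormalH7.stalkIdeal (maximalIdeal A) x ≤ maximalIdeal (X.presheaf.stalk x) :=
    fun x hx => stalkIdeal_le_maximalIdeal (A := A) hx le_rfl
  -- idempotence at the points of the closed fibre
  have hidem : ∀ x : X, f x = closedPoint A →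
      X.presheaf.germ ⊤ x trivial (y * y - y) = 0 := by
    intro x hx
    have hb := Ideal.iInf_pow_eq_bot_of_isLocalRing (maximalIdeal (X.presheaf.stalk x))
      (maximalIdeal.isMaximal _).ne_top
    rw [← Ideal.mem_bot, ← hb, Submodule.mem_iInf]
    intro n
    refine Ideal.pow_le_pow_right (Nat.le_succ n) ((?_ : FormalH7.stalkIdeal (maximalIdeal A ^ (n + 1)) x ≤ _) ?_)
    · rw [FormalH7.stalkIdeal, Ideal.map_pow]
      exact Ideal.pow_right_mono (hle x hx) _
    · rw [map_sub, map_mul]
      rcases hUV.ge (show x ∈ f ⁻¹' {closedPoint A} from hx) with h | h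
      · rw [← mul_sub_one]
        exact Ideal.mul_mem_left _ _ (kU x h n)
      · exact sub_mem (Ideal.mul_mem_left _ _ (kV x h n)) (kV x h n)
  have hzero : y * y - y = 0 := by
    have e : ∀ x : X, X.presheaf.germ ⊤ x trivial (y * y - y) = 0 := fun x => by
      obtain ⟨x₀, hx₀, hx₀J⟩ := FormalH7.exists_closure_mem_support (maximalIdeal A) f x
      have hfx : f x₀ = closedPoint A := by
        rw [Scheme.IdealSheafData.support_comap, Closeds.coe_preimage, Set.mem_preimage,
          FormalH7.support_idealSpec] at hx₀J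
        exact PrimeSpectrum.ext ((maximalIdeal.isMaximal A).eq_of_le (f x₀).isPrime.ne_top hx₀J).symm
      rw [← TopCat.Presheaf.germ_stalkSpecializes_apply X.presheaf (U := ⊤) trivial (specializes_iff_mem_closure.2 hx₀),
        hidem x₀ hfx, map_zero]
    exact TopCat.Presheaf.section_ext X.sheaf ⊤ _ _ fun x hx => (e x).trans (map_zero _).symm
  have hbo : ∀ (c : Γ(X, ⊤)) (x : X), x ∈ X.basicOpen c ↔ IsUnit (X.presheaf.germ ⊤ x trivial c) :=
    fun c x => X.mem_basicOpen (U := ⊤) c x trivial
  refine ⟨X.basicOpen y, ⟨?_, (X.basicOpen y).2⟩, fun x hx => ?_, Set.disjoint_left.2 fun x hx hx' => ?_⟩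
  · have he : ((X.basicOpen (1 - y) : X.Opens) : Set X) = ((X.basicOpen y : X.Opens) : Set X)ᶜ := by
      ext x
      simp only [SetLike.mem_coe, Set.mem_compl_iff, hbo, map_sub, map_one]
      have h : X.presheaf.germ ⊤ x trivial y * (1 - X.presheaf.germ ⊤ x trivial y) = 0 := by
        rw [mul_sub, mul_one, ← map_mul, sub_eq_zero.1 hzero, sub_self]
      constructor
      · intro h1 h2
        exact not_isUnit_zero (M₀ := X.presheaf.stalk x) (h ▸ h2.mul h1)
      · intro h1
        exact (IsLocalRing.isUnit_or_isUnit_one_sub_self _).resolve_left h1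
    rw [← isOpen_compl_iff, ← he]
    exact (X.basicOpen (1 - y)).2
  · rw [SetLike.mem_coe, hbo]
    have h1 := kU x hx 0
    rw [zero_add, pow_one] at h1
    by_contra hn
    have h2 : (1 : X.presheaf.stalk x) ∈ maximalIdeal (X.presheaf.stalk x) := by
      have := sub_mem (show X.presheaf.germ ⊤ x trivial y ∈ maximalIdeal _ from hn)
        (hle x (hUV.le (Or.inl hx)) h1)
      rwa [sub_sub_cancel] at this
    exact h2 isUnit_one
  · rw [SetLike.mem_coe, hbo] at hx
    have h1 := kV x hx' 0
    rw [zero_add, pow_one] at h1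
    exact hle x (hUV.le (Or.inr hx')) h1 hx

end Groth.Agent.ZConn5
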