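import Groth.Agent.Lib.ZConn5.CountTrait
import Groth.Agent.Lib.DVRVal.Basic
import Groth.Agent.Lib.ProConsDesc12.Basic
import Groth.Agent.Lib.ConsTop3.Basic
import Groth.Agent.S1339

/-!
Semicontinuity of the number of geometric connected components of a proper morphism (EGA IV 15.5.1, 15.5.9).
-/

universe u

open CategoryTheory CategoryTheory.Limits AlgebraicGeometry TopologicalSpace IsLocalRing Topology

set_option backward.isDefEq.respectTransparency false
set_option backward.isDefEq.respectTransparency.types false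

namespace Groth.Agent.ZConn5

variable {X Y : Scheme.{u}}

/-- A specialisation is realised by a complete trait with algebraically closed residue field. -/
theorem exists_complete_trait [IsLocallyNoetherian Y] {y y' : Y} (hgen : y' ⤳ y) (hne : y' ≠ y) :
    ∃ (A : Type u) (_ : CommRing A) (_ : IsDomain A) (_ : IsDiscreteValuationRing A)
      (_ : IsAdicComplete (maximalIdeal A) A) (_ : IsAlgClosed (ResidueField A)) (g : Spec (CommRingCat.of A) ⟶ Y),
      g (closedPoint A) = y ∧ g (genericPoint (Spec (CommRingCat.of A))) = y' := by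
  obtain ⟨A, h, hA, hcl, hmap⟩ := DVRVal.exists_dvr_specializes (𝟙 Y) y' y hgen hne.symm
  haveI := hA
  have hgenA : h (genericPoint (Spec (CommRingCat.of A))) = y' := by
    have h2 : Spec.map (CommRingCat.ofHom A.subtype) (closedPoint (Y.residueField y')) =
        genericPoint (Spec (CommRingCat.of A)) := by
      rw [genericPoint_eq_bot_of_affine]
      refine PrimeSpectrum.ext ?_
      show (maximalIdeal (Y.residueField y')).comap A.subtype = ⊥
      rw [isField_iff_maximalIdeal_eq.1 (Field.toIsField _)]
      exact Ideal.comap_bot_of_injective _ Subtype.val_injective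
    rw [← h2, ← Scheme.Hom.comp_apply, hmap, Category.comp_id]
    exact Y.fromSpecResidueField_apply y' _
  let k' := AlgebraicClosure (ResidueField A)
  obtain ⟨A₁, _, _, _, _, φ, hφ, ψ, hφi, hψs, hψk, -⟩ := UnivOpenFin5.exists_complete_dvr_ext A k'
    ((algebraMap (ResidueField A) k').comp (residue A)) (by
      rw [← RingHom.comap_ker, (RingHom.injective_iff_ker_eq_bot _).1 (algebraMap (ResidueField A) k').injective,
        ← RingHom.ker_eq_comap_bot, ker_residue])
  haveI := hφ
  refine ⟨A₁, inferInstance, inferInstance, inferInstance, inferInstance, IsAlgClosed.of_ringEquiv k' _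
    ((RingHom.quotientKerEquivOfSurjective hψs).symm.trans (Ideal.quotEquivOfEq hψk)),
    Spec.map (CommRingCat.ofHom φ) ≫ h, (congrArg h (IsLocalRing.comap_closedPoint φ)).trans hcl,
    (congrArg h ?_).trans hgenA⟩
  rw [genericPoint_eq_bot_of_affine, genericPoint_eq_bot_of_affine]
  refine PrimeSpectrum.ext ?_
  show (⊥ : Ideal A₁).comap φ = ⊥
  exact Ideal.comap_bot_of_injective _ hφi

theorem exists_nat_count (f : X ⟶ Y) [IsProper f] (y : Y) : ∃ n : ℕ, MoreMor.nGeomConnComp f y = n := by
  let e := Spec.map (CommRingCat.ofHom (algebraMap (Y.residueField y) (SeparableClosure (Y.residueField y))))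
  haveI : IsProper (f.fiberToSpecResidueField y) := MorphismProperty.pullback_snd (P := @IsProper) _ _ inferInstance
  let q := pullback.snd (f.fiberToSpecResidueField y) e
  haveI : IsProper q := MorphismProperty.pullback_snd (P := @IsProper) _ _ inferInstance
  haveI : IsLocallyNoetherian (pullback (f.fiberToSpecResidueField y) e) :=
    LocallyOfFiniteType.isLocallyNoetherian q
  haveI : CompactSpace ↥(pullback (f.fiberToSpecResidueField y) e) := QuasiCompact.compactSpace_of_compactSpace q
  haveI : IsNoetherian (pullback (f.fiberToSpecResidueField y) e) := {}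
  haveI : Finite (_root_.ConnectedComponents ↥(MoreMor.geomFiber f y)) :=
    MilnorFib6.finite_connectedComponents ↥(pullback (f.fiberToSpecResidueField y) e)
  exact ⟨Nat.card _, ENat.card_eq_coe_natCard _⟩

theorem isProConstructible_count_lt [IsLocallyNoetherian Y] (f : X ⟶ Y) [IsProper f] (n : ℕ) :
    IsLocallyConstructible {z : Y | MoreMor.nGeomConnComp f z < n} := by
  haveI := LimH13.locallyOfFinitePresentation_of_noetherian f
  induction n with
  | zero => simpa using IsLocallyConstructible.empty
  | succ n ih =>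
    have : {z : Y | MoreMor.nGeomConnComp f z < (n + 1 : ℕ)} =
        {z | MoreMor.nGeomConnComp f z < (n : ℕ)} ∪ {z | MoreMor.nGeomConnComp f z = (n : ℕ)} := by
      ext z
      obtain ⟨m, hm⟩ := exists_nat_count f z
      simp only [Set.mem_ofPred_eq, Set.mem_union, hm, Nat.cast_lt, Nat.cast_inj]
      omega
    rw [this]
    exact ih.union (S1339.result f n)

theorem notMem_closure [IsLocallyNoetherian Y] {S : Set Y} (hS : IsLocallyConstructible S) {y : Y}
    (h : ∀ y' : Y, y' ⤳ y → y' ∉ S) : y ∉ closure S := fun hy => by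
  obtain ⟨w, hw, hwy⟩ := ProConsDesc12.exists_specializes_of_mem_closure
    (ConsTop3.isProConstructible_of_isLocallyConstructible hS) hy
  exact h w hwy hw

/-- EGA IV 15.5.1: lower semicontinuity. -/
theorem eventually_le [IsLocallyNoetherian Y] (f : X ⟶ Y) [IsProper f] (y : Y)
    (hopen : ∀ x : X, f x = y → EGA43.IsUnivOpenAt f x) :
    ∃ V ∈ nhds y, ∀ z ∈ V, MoreMor.nGeomConnComp f y ≤ MoreMor.nGeomConnComp f z := by
  obtain ⟨n, hn⟩ := exists_nat_count f y
  refine ⟨(closure {z : Y | MoreMor.nGeomConnComp f z < n})ᶜ, isClosed_closure.isOpen_compl.mem_nhds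
    (notMem_closure (isProConstructible_count_lt f n) fun y' hy' hlt => ?_), fun z hz => ?_⟩
  · by_cases he : y' = y
    · exact (he ▸ hlt : MoreMor.nGeomConnComp f y < n).ne hn
    obtain ⟨A, _, _, _, _, _, g, hg, hg'⟩ := exists_complete_trait hy' he
    have := count_le f y hopen g hg
    rw [hg', hn] at this
    exact (this.trans_lt hlt).false
  · rw [hn]
    exact not_lt.1 fun h => hz (subset_closure h)

/-- EGA IV 15.5.9: upper semicontinuity. -/
theorem eventually_ge [IsLocallyNoetherian Y] (f : X ⟶ Y) [IsProper f] (y : Y)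
    (hopen : ∀ x : X, f x = y → EGA43.IsUnivOpenAt f x) (hred : GeometricallyReduced (f.fiberToSpecResidueField y)) :
    ∃ V ∈ nhds y, ∀ z ∈ V, MoreMor.nGeomConnComp f z ≤ MoreMor.nGeomConnComp f y := by
  obtain ⟨n, hn⟩ := exists_nat_count f y
  refine ⟨(closure {z : Y | MoreMor.nGeomConnComp f z < (n + 1 : ℕ)}ᶜ)ᶜ, isClosed_closure.isOpen_compl.mem_nhds
    (notMem_closure (fun x => (isProConstructible_count_lt f (n + 1) x).imp fun U h => ⟨h.1, h.2.1, h.2.2.compl⟩) fun y' hy' hlt => hlt ?_), fun z hz => ?_⟩
  · show MoreMor.nGeomConnComp f y' < (n + 1 : ℕ)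
    have h1 : MoreMor.nGeomConnComp f y' ≤ (n : ℕ) := by
      by_cases he : y' = y
      · exact (he ▸ hn.le)
      obtain ⟨A, _, _, _, _, _, g, hg, hg'⟩ := exists_complete_trait hy' he
      have := count_ge f y hopen hred g hg
      rwa [hg', hn] at this
    exact h1.trans_lt (Nat.cast_lt.2 n.lt_succ_self)
  · have h1 : MoreMor.nGeomConnComp f z < (n + 1 : ℕ) := not_not.1 fun h => hz (subset_closure h)
    obtain ⟨m, hm⟩ := exists_nat_count f z
    rw [hm] at h1 ⊢
    rw [hn]
    exact Nat.cast_le.2 (Nat.lt_succ_iff.1 (Nat.cast_lt.1 h1))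

end Groth.Agent.ZConn5
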