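import Groth.Agent.Lib.ZConn5.SectionProper
import Groth.Agent.Lib.DvrConn4
import Groth.Agent.Lib.GeomSpread4.Count
import Groth.Agent.Lib.GeomPts5.DVR
import Groth.Agent.S4645
import Groth.Agent.Lib.MilnorFib6.Noeth
import Groth.Prelude.Def_EGA43

/-!
Numbers of geometric connected components of a proper morphism along a complete trait (EGA IV 15.5).
-/

universe u

open CategoryTheory CategoryTheory.Limits AlgebraicGeometry TopologicalSpace IsLocalRing Topology

set_option backward.isDefEq.respectTransparency false
set_option backward.isDefEq.respectTransparency.types false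

namespace Groth.Agent.ZConn5

variable {X Y : Scheme.{u}}

theorem card_cc_le_of_meets {α β : Type u} [TopologicalSpace α] [TopologicalSpace β] (p : α → β) (hp : Continuous p)
    (h : ∀ b, (connectedComponent b ∩ Set.range p).Nonempty) :
    ENat.card (_root_.ConnectedComponents β) ≤ ENat.card (_root_.ConnectedComponents α) := by
  refine Cardinal.toENat.monotone' (Cardinal.mk_le_of_surjective (f := hp.connectedComponentsMap) fun c => ?_)
  obtain ⟨b, rfl⟩ := ConnectedComponents.surjective_coe c
  obtain ⟨_, hb, a, rfl⟩ := h b
  exact ⟨ConnectedComponents.mk a, ConnectedComponents.coe_eq_coe'.2 hb⟩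

theorem card_cc_le_of_preconnected {α β : Type u} [TopologicalSpace α] [TopologicalSpace β] (p : α → β)
    (hp : Continuous p) (h : ∀ b, _root_.IsPreconnected (p ⁻¹' connectedComponent b)) :
    ENat.card (_root_.ConnectedComponents α) ≤ ENat.card (_root_.ConnectedComponents β) := by
  refine Cardinal.toENat.monotone' (Cardinal.mk_le_of_injective (f := hp.connectedComponentsMap) fun c c' => ?_)
  obtain ⟨a, rfl⟩ := ConnectedComponents.surjective_coe c
  obtain ⟨a', rfl⟩ := ConnectedComponents.surjective_coe c'
  intro he
  have he' : p a ∈ connectedComponent (p a') := ConnectedComponents.coe_eq_coe'.1 he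
  exact ConnectedComponents.coe_eq_coe'.2
    ((h (p a')).subset_connectedComponent (show a' ∈ p ⁻¹' _ from mem_connectedComponent) he')

section Trait

variable {B : Type u} [CommRing B] [IsDomain B] [IsDiscreteValuationRing B] (q : X ⟶ Spec (CommRingCat.of B))

theorem noetherianSpace_of_proper [IsProper q] : NoetherianSpace X := by
  haveI : IsLocallyNoetherian X := LocallyOfFiniteType.isLocallyNoetherian q
  haveI : CompactSpace X := QuasiCompact.compactSpace_of_compactSpace q
  haveI : IsNoetherian X := {}
  infer_instance

/-- Over a complete trait the closed fibre has the components of the scheme. -/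
theorem card_closedFibre [IsAdicComplete (maximalIdeal B) B] [IsProper q] {T : Scheme.{u}} [Subsingleton T] (t₀ : T)
    (i : T ⟶ Spec (CommRingCat.of B)) [IsClosedImmersion i] (hi : i t₀ = closedPoint B) :
    ENat.card (_root_.ConnectedComponents ↥(pullback q i)) = ENat.card (_root_.ConnectedComponents X) := by
  haveI := noetherianSpace_of_proper q
  let p := pullback.fst q i
  have hr : Set.range p = q ⁻¹' {closedPoint B} := by
    rw [Scheme.Pullback.range_fst]
    refine congrArg (q ⁻¹' ·) (Set.eq_singleton_iff_unique_mem.2 ⟨⟨t₀, hi⟩, ?_⟩)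
    rintro _ ⟨t, rfl⟩
    rw [Subsingleton.elim t t₀, hi]
  refine le_antisymm (card_cc_le_of_preconnected _ p.continuous fun b => ?_)
    (card_cc_le_of_meets _ p.continuous fun b => ?_)
  · rw [← p.isEmbedding.isInducing.isPreconnected_image, Set.image_preimage_eq_inter_range, hr]
    have hc : IsClosed (q ⁻¹' {closedPoint B}) := (isClosed_singleton_closedPoint B).preimage q.continuous
    rw [isPreconnected_closed_iff]
    intro u v hu hv huv hnu hnv
    by_contra hne
    let C := connectedComponent b ∩ q ⁻¹' {closedPoint B}
    have hC : IsClosed C := isClosed_connectedComponent.inter hc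
    have hd : Disjoint (C ∩ u) ((C ∩ v) ∪ (q ⁻¹' {closedPoint B} \ connectedComponent b)) :=
      Set.disjoint_left.2 fun z hz hz' => hz'.elim (fun h => hne ⟨z, hz.1, hz.2, h.2⟩) fun h => h.2 hz.1.1
    obtain ⟨W, hW, hWu, hWv⟩ := exists_isClopen q (C ∩ u) ((C ∩ v) ∪ (q ⁻¹' {closedPoint B} \ connectedComponent b))
      (hC.inter hu) ((hC.inter hv).union (hc.sdiff (isOpen_connectedComponent b))) (by
        ext z
        refine ⟨fun h => h.elim (fun h => h.1.2) fun h => h.elim (fun h => h.1.2) fun h => h.1, fun hz => ?_⟩
        by_cases hzb : z ∈ connectedComponent b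
        · exact (huv ⟨hzb, hz⟩).elim (fun h => Or.inl ⟨⟨hzb, hz⟩, h⟩) fun h => Or.inr (Or.inl ⟨⟨hzb, hz⟩, h⟩)
        · exact Or.inr (Or.inr ⟨hz, hzb⟩)) hd
    obtain ⟨a, ha, hau⟩ := hnu
    obtain ⟨c, hc', hcv⟩ := hnv
    have hsub : connectedComponent b ⊆ W := isPreconnected_connectedComponent.subset_isClopen hW
      ⟨a, ha.1, hWu ⟨ha, hau⟩⟩
    exact Set.disjoint_left.1 hWv (hsub hc'.1) (Or.inl ⟨hc', hcv⟩)
  · have him : IsClosed (q '' connectedComponent b) := q.isClosedMap _ isClosed_connectedComponent
    obtain ⟨c, hc, hqc⟩ := (specializes_closedPoint (q b)).mem_closed him ⟨b, mem_connectedComponent, rfl⟩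
    exact ⟨c, hc, hr.ge hqc⟩

/-- An open proper scheme over a trait: every component meets the generic fibre. -/
theorem card_le_genericFibre [IsProper q] (hq : IsOpenMap q.base) {T : Scheme.{u}} (t₀ : T)
    (j : T ⟶ Spec (CommRingCat.of B)) (hj : j t₀ = genericPoint (Spec (CommRingCat.of B))) :
    ENat.card (_root_.ConnectedComponents X) ≤ ENat.card (_root_.ConnectedComponents ↥(pullback q j)) := by
  haveI := noetherianSpace_of_proper q
  refine card_cc_le_of_meets _ (pullback.fst q j).continuous fun b => ?_
  obtain ⟨c, hc, hqc⟩ := (genericPoint_specializes (q b)).mem_open (hq _ (isOpen_connectedComponent b))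
    ⟨b, mem_connectedComponent, rfl⟩
  exact ⟨c, hc, (Scheme.Pullback.range_fst (f := q) (g := j)).ge ⟨t₀, hj.trans hqc.symm⟩⟩

/-- An open proper scheme over a trait with reduced closed fibre: the generic piece of a component is connected. -/
theorem genericFibre_le [IsProper q] (hq : IsOpenMap q.base) {T : Scheme.{u}} [Subsingleton T] (t₀ : T)
    (j : T ⟶ Spec (CommRingCat.of B)) [IsPreimmersion j] (hj : j t₀ = genericPoint (Spec (CommRingCat.of B)))
    (hred : AlgebraicGeometry.IsReduced (q.fiber (closedPoint B))) :
    ENat.card (_root_.ConnectedComponents ↥(pullback q j)) ≤ ENat.card (_root_.ConnectedComponents X) := by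
  haveI := noetherianSpace_of_proper q
  let p := pullback.fst q j
  have hr : Set.range p = q ⁻¹' {genericPoint (Spec (CommRingCat.of B))} := by
    rw [Scheme.Pullback.range_fst]
    refine congrArg (q ⁻¹' ·) (Set.eq_singleton_iff_unique_mem.2 ⟨⟨t₀, hj⟩, ?_⟩)
    rintro _ ⟨t, rfl⟩
    rw [Subsingleton.elim t t₀, hj]
  refine card_cc_le_of_preconnected _ p.continuous fun b => ?_
  rw [← p.isEmbedding.isInducing.isPreconnected_image, Set.image_preimage_eq_inter_range, hr]
  let W : X.Opens := ⟨connectedComponent b, isOpen_connectedComponent b⟩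
  let h := W.ι ≫ q
  haveI : PreconnectedSpace W := Subtype.preconnectedSpace isPreconnected_connectedComponent
  haveI := hred
  haveI : AlgebraicGeometry.IsReduced (h.fiber (closedPoint B)) := by
    let e := pullbackRightPullbackFstIso q ((Spec (CommRingCat.of B)).fromSpecResidueField (closedPoint B)) W.ι
    exact isReduced_of_isOpenImmersion (Y := q.fiber (closedPoint B)) (e.inv ≫ pullback.snd _ _)
  haveI := DvrConn4.preconnectedSpace_generic h (hq.comp W.2.isOpenMap_subtype_val) (closedPoint B)
    (genericPoint (Spec (CommRingCat.of B))) (isClosed_singleton_closedPoint B) (fun z => genericPoint_specializes z)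
    inferInstance
  have hs : Set.range (h.fiberι (genericPoint (Spec (CommRingCat.of B))) ≫ W.ι) =
      connectedComponent b ∩ q ⁻¹' {genericPoint (Spec (CommRingCat.of B))} := by
    rw [Scheme.Hom.comp_base, TopCat.coe_comp, Set.range_comp, h.range_fiberι]
    exact Set.ext fun z => ⟨fun ⟨w, hw, e⟩ => e ▸ ⟨w.2, hw⟩, fun ⟨h1, h2⟩ => ⟨⟨z, h1⟩, h2, rfl⟩⟩
  rw [← hs]
  exact isPreconnected_range (h.fiberι _ ≫ W.ι).continuous

end Trait

/-- A universally open fibre gives an open base change over a trait. -/
theorem isOpenMap_snd (f : X ⟶ Y) [IsProper f] (y : Y) (h : ∀ x : X, f x = y → EGA43.IsUnivOpenAt f x)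
    {B : Type u} [CommRing B] [IsDomain B] [IsDiscreteValuationRing B] (g : Spec (CommRingCat.of B) ⟶ Y)
    (hg : g (closedPoint B) = y) : IsOpenMap (pullback.snd f g).base := by
  intro O hO
  refine isOpen_iff_mem_nhds.2 ?_
  rintro _ ⟨z, hz, rfl⟩
  rcases GenLen5.eq_closedPoint_or_generic (pullback.snd f g z) with hc | hη
  · exact h (pullback.fst f g z) (by rw [← Scheme.Hom.comp_apply, pullback.condition, Scheme.Hom.comp_apply, hc, hg])
      _ g z rfl O (hO.mem_nhds hz)
  · have hopen : IsOpen ({genericPoint (Spec (CommRingCat.of B))} : Set (Spec (CommRingCat.of B))) := by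
      have hne : closedPoint B ≠ genericPoint (Spec (CommRingCat.of B)) := fun h =>
        IsDiscreteValuationRing.not_a_field B
          (by rw [genericPoint_eq_bot_of_affine] at h; exact congrArg PrimeSpectrum.asIdeal h)
      rw [show ({genericPoint (Spec (CommRingCat.of B))} : Set (Spec (CommRingCat.of B))) =
          ({closedPoint B} : Set (Spec (CommRingCat.of B)))ᶜ from Set.ext fun t =>
        ⟨fun ht ht' => hne (ht'.symm.trans ht), fun ht => (GenLen5.eq_closedPoint_or_generic t).resolve_left ht⟩]
      exact (isClosed_singleton_closedPoint B).isOpen_compl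
    rw [hη]
    exact Filter.mem_of_superset (hopen.mem_nhds rfl) (Set.singleton_subset_iff.2 ⟨z, hz, hη⟩)

/-- The geometric count at a point, along a trait with separably closed residue field at it. -/
theorem count_closed (f : X ⟶ Y) [IsProper f] {B : Type u} [CommRing B] [IsDomain B] [IsDiscreteValuationRing B]
    [IsAdicComplete (maximalIdeal B) B] [IsAlgClosed (ResidueField B)] (g : Spec (CommRingCat.of B) ⟶ Y) :
    MoreMor.nGeomConnComp f (g (closedPoint B)) = ENat.card (_root_.ConnectedComponents ↥(pullback f g)) := by
  let r := Spec.map (CommRingCat.ofHom (residue B))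
  haveI : IsClosedImmersion r := IsClosedImmersion.spec_of_surjective _ residue_surjective
  have hr : r (closedPoint (ResidueField B)) = closedPoint B := IsLocalRing.comap_closedPoint (residue B)
  haveI : Subsingleton ↥(Spec (CommRingCat.of (ResidueField B))) := inferInstanceAs (Subsingleton (PrimeSpectrum _))
  have h1 := (GeomSpread4.count_point f (r ≫ g)).2
  rw [Scheme.Hom.comp_apply, hr] at h1
  rw [h1, ← card_closedFibre (pullback.snd f g) (closedPoint (ResidueField B)) r hr]
  exact congrArg Cardinal.toENat (GeomSpread4.mk_eq_of_iso (pullbackLeftPullbackSndIso f g r).symm).2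

/-- Lower semicontinuity along a trait. -/
theorem count_le (f : X ⟶ Y) [IsProper f] (y : Y) (h : ∀ x : X, f x = y → EGA43.IsUnivOpenAt f x)
    {B : Type u} [CommRing B] [IsDomain B] [IsDiscreteValuationRing B] [IsAdicComplete (maximalIdeal B) B]
    [IsAlgClosed (ResidueField B)] (g : Spec (CommRingCat.of B) ⟶ Y) (hg : g (closedPoint B) = y) :
    MoreMor.nGeomConnComp f y ≤ MoreMor.nGeomConnComp f (g (genericPoint (Spec (CommRingCat.of B)))) := by
  let Ω := AlgebraicClosure (FractionRing B)
  let j : Spec (CommRingCat.of Ω) ⟶ Spec (CommRingCat.of B) := Spec.map (CommRingCat.ofHom (algebraMap B Ω))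
  have hj : j (closedPoint Ω) = genericPoint (Spec (CommRingCat.of B)) := by
    rw [genericPoint_eq_bot_of_affine]
    refine PrimeSpectrum.ext ?_
    show Ideal.comap (algebraMap B Ω) (maximalIdeal Ω) = ⊥
    rw [isField_iff_maximalIdeal_eq.1 (Field.toIsField _)]
    exact Ideal.comap_bot_of_injective _ (by
      rw [IsScalarTower.algebraMap_eq B (FractionRing B) Ω]
      exact (algebraMap (FractionRing B) Ω).injective.comp (IsFractionRing.injective B _))
  have h1 := (GeomSpread4.count_point f (j ≫ g)).2
  rw [Scheme.Hom.comp_apply, hj] at h1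
  rw [← hg, count_closed f g, h1]
  refine (card_le_genericFibre (pullback.snd f g) (isOpenMap_snd f y h g hg) (closedPoint Ω) j hj).trans_eq ?_
  exact congrArg Cardinal.toENat (GeomSpread4.mk_eq_of_iso (pullbackLeftPullbackSndIso f g j)).2

/-- Over a finite separable extension all geometric components are visible. -/
theorem exists_field_count {K : Type u} [Field K] {P : Scheme.{u}} (q : P ⟶ Spec (CommRingCat.of K)) [IsProper q] :
    ∃ (L : Type u) (_ : Field L) (_ : Algebra K L), FiniteDimensional K L ∧
      MoreMor.nGeomConnComp q (closedPoint K) ≤ ENat.card (_root_.ConnectedComponents ↥(FBase.bc q L)) := by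
  haveI : IsLocallyNoetherian P := LocallyOfFiniteType.isLocallyNoetherian q
  haveI : CompactSpace P := QuasiCompact.compactSpace_of_compactSpace q
  haveI : IsNoetherian P := {}
  haveI : Finite (_root_.ConnectedComponents P) := MilnorFib6.finite_connectedComponents P
  haveI : JacobsonSpace P := LocallyOfFiniteType.jacobsonSpace q
  have hpt : ∀ c : _root_.ConnectedComponents P, ∃ x : P, _root_.ConnectedComponents.mk x = c ∧
      FBase.ResidueFieldProp q x (fun L _ _ => FiniteDimensional K (separableClosure K L)) := fun c => by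
    obtain ⟨z, rfl⟩ := ConnectedComponents.surjective_coe c
    obtain ⟨x, hx, hxc⟩ := nonempty_inter_closedPoints (Z := connectedComponent z) ⟨z, mem_connectedComponent⟩
      isClosed_connectedComponent.isLocallyClosed
    refine ⟨x, ConnectedComponents.coe_eq_coe'.2 hx, ?_⟩
    obtain ⟨e, he⟩ : ∃ e : CommRingCat.of K ⟶ P.residueField x, Spec.map e = P.fromSpecResidueField x ≫ q :=
      ⟨Spec.preimage (P.fromSpecResidueField x ≫ q), Spec.map_preimage _⟩
    refine ⟨e.hom, he, ?_⟩
    letI := e.hom.toAlgebra
    haveI : IsClosedImmersion (P.fromSpecResidueField x) := by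
      refine IsClosedImmersion.of_isPreimmersion _ ?_
      rw [P.range_fromSpecResidueField]
      exact hxc
    haveI : LocallyOfFiniteType (Spec.map e) := he ▸ inferInstance
    have hft : Algebra.FiniteType K (P.residueField x) :=
      RingHom.finiteType_algebraMap.1 ((HasRingHomProperty.Spec_iff (P := @LocallyOfFiniteType)).1 ‹LocallyOfFiniteType (Spec.map e)›)
    haveI : FiniteDimensional K (P.residueField x) := finite_of_finite_type_of_isJacobsonRing K (P.residueField x)
    infer_instance
  obtain ⟨L, _, _, hfin, -, hL⟩ := S4645.result q hpt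
  refine ⟨L, inferInstance, inferInstance, hfin, ?_⟩
  let Ω := AlgebraicClosure L
  let t := Spec.map (CommRingCat.ofHom (algebraMap L Ω))
  let s := Spec.map (CommRingCat.ofHom (algebraMap K L))
  have h1 := (GeomSpread4.count_point q (t ≫ s)).2
  rw [show (t ≫ s) (closedPoint Ω) = closedPoint K from Subsingleton.elim (α := PrimeSpectrum K) _ _] at h1
  rw [h1, ← show ENat.card (_root_.ConnectedComponents ↥(pullback (pullback.snd q s) t)) =
    ENat.card (_root_.ConnectedComponents ↥(pullback q (t ≫ s))) from
    congrArg Cardinal.toENat (GeomSpread4.mk_eq_of_iso (pullbackLeftPullbackSndIso q s t)).2]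
  exact card_cc_le_of_preconnected (pullback.fst (pullback.snd q s) t) (pullback.fst _ t).continuous
    fun b => (hL Ω b).isPreconnected

/-- Upper semicontinuity along a trait. -/
theorem count_ge (f : X ⟶ Y) [IsProper f] (y : Y) (h : ∀ x : X, f x = y → EGA43.IsUnivOpenAt f x)
    (hred : GeometricallyReduced (f.fiberToSpecResidueField y))
    {A : Type u} [CommRing A] [IsDomain A] [IsDiscreteValuationRing A] [IsAdicComplete (maximalIdeal A) A]
    [IsAlgClosed (ResidueField A)] (g : Spec (CommRingCat.of A) ⟶ Y) (hg : g (closedPoint A) = y) :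
    MoreMor.nGeomConnComp f (g (genericPoint (Spec (CommRingCat.of A)))) ≤ MoreMor.nGeomConnComp f y := by
  let K := FractionRing A
  let jA : Spec (CommRingCat.of K) ⟶ Spec (CommRingCat.of A) := Spec.map (CommRingCat.ofHom (algebraMap A K))
  have hjA : jA (closedPoint K) = genericPoint (Spec (CommRingCat.of A)) := S4978.pt_generic (K := K) A
  obtain ⟨L, _, _, hfin, hL⟩ := exists_field_count (pullback.snd f (jA ≫ g))
  rw [(GeomSpread4.count_baseChange (IsPullback.of_hasPullback f (jA ≫ g)) (closedPoint K)).2, Scheme.Hom.comp_apply,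
    hjA] at hL
  refine hL.trans ?_
  haveI := hfin
  letI : Algebra A L := ((algebraMap K L).comp (algebraMap A K)).toAlgebra
  haveI : IsScalarTower A K L := IsScalarTower.of_algebraMap_eq fun _ => rfl
  obtain ⟨hB, hBloc, hBres⟩ := GeomPts5.integralClosure_dvr A L
  haveI : FaithfulSMul A L := (faithfulSMul_iff_algebraMap_injective A L).2
    ((algebraMap K L).injective.comp (IsFractionRing.injective A K))
  haveI : Module.Finite A (integralClosure A L) := CplDomain.isN2_of_complete A L inferInstance
  haveI := hB
  haveI := hBloc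
  haveI := hBres
  obtain ⟨_, hBc⟩ := CplDomain.completeLocal_of_finite A (integralClosure A L)
  haveI : IsFractionRing (integralClosure A L) L := integralClosure.isFractionRing_of_finite_extension K L
  let cA : Spec (CommRingCat.of (integralClosure A L)) ⟶ Spec (CommRingCat.of A) :=
    Spec.map (CommRingCat.ofHom (algebraMap A (integralClosure A L)))
  let j : Spec (CommRingCat.of L) ⟶ Spec (CommRingCat.of (integralClosure A L)) :=
    Spec.map (CommRingCat.ofHom (algebraMap (integralClosure A L) L))
  haveI : IsPreimmersion j := IsPreimmersion.of_isLocalization (nonZeroDivisors (integralClosure A L))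
  haveI : Subsingleton ↥(Spec (CommRingCat.of L)) := inferInstanceAs (Subsingleton (PrimeSpectrum L))
  let gB := cA ≫ g
  have hgB : gB (closedPoint _) = y := (congrArg g (IsLocalRing.comap_closedPoint (algebraMap A _))).trans hg
  have hpb : j ≫ gB = Spec.map (CommRingCat.ofHom (algebraMap K L)) ≫ jA ≫ g := by
    simp only [j, gB, cA, jA, ← Category.assoc, ← Spec.map_comp, ← CommRingCat.ofHom_comp]
    rfl
  have hredB : AlgebraicGeometry.IsReduced ((pullback.snd f gB).fiber (closedPoint (integralClosure A L))) := by
    let a := (closedPoint (integralClosure A L) : Spec (CommRingCat.of (integralClosure A L)))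
    obtain ⟨pr, -, hsq⟩ := FibDim14.exists_fibre_square (IsPullback.of_hasPullback f gB) a
    have hred' : GeometricallyReduced (f.fiberToSpecResidueField (gB a)) := by rw [hgB]; exact hred
    haveI := hred'
    exact GeometricallyReduced.geometrically_isReduced (f := f.fiberToSpecResidueField (gB a)) _ _ _ hsq
  rw [← hgB, count_closed f gB]
  refine le_trans (le_of_eq ?_) (genericFibre_le (pullback.snd f gB) (isOpenMap_snd f y h gB hgB) (closedPoint L) j
    (S4978.pt_generic (K := L) _) hredB)
  exact congrArg Cardinal.toENat (GeomSpread4.mk_eq_of_iso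
    (pullbackLeftPullbackSndIso f (jA ≫ g) (Spec.map (CommRingCat.ofHom (algebraMap K L))) ≪≫
      pullback.congrHom rfl hpb.symm ≪≫ (pullbackLeftPullbackSndIso f gB j).symm)).2

end Groth.Agent.ZConn5
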