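import Groth.Agent.Lib.ZConn5.ProperAt
import Groth.Agent.Lib.SectionCompFlat4
import Groth.Agent.Lib.LimH13.Descend
import Groth.Agent.Lib.FpqcDesc.Basic
import Groth.Prelude.Def_MoreMor

/-!
The union of the components along a section is proper near a point where the component is proper
(EGA IV 15.7.10).
-/

universe u

open CategoryTheory CategoryTheory.Limits AlgebraicGeometry TopologicalSpace IsLocalRing Topology
open MoreMor (sectionComponents)

set_option backward.isDefEq.respectTransparency false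
set_option backward.isDefEq.respectTransparency.types false

namespace Groth.Agent.ZConn5

variable {X Y : Scheme.{u}}

/-- The connected components of a Noetherian space are open. -/
theorem isOpen_connectedComponent {α : Type u} [TopologicalSpace α] [NoetherianSpace α] (a : α) :
    IsOpen (connectedComponent a) := by
  rw [← isClosed_compl_iff]
  let I := {T : Set α | T ∈ irreducibleComponents α ∧ Disjoint T (connectedComponent a)}
  have hI : I.Finite := NoetherianSpace.finite_irreducibleComponents.subset fun T h => h.1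
  convert hI.isClosed_biUnion fun T hT => isClosed_of_mem_irreducibleComponents T hT.1
  ext b
  simp only [Set.mem_compl_iff, Set.mem_iUnion, exists_prop]
  constructor
  · intro hb
    refine ⟨irreducibleComponent b, ⟨irreducibleComponent_mem_irreducibleComponents b,
      Set.disjoint_left.2 fun c hc hca => hb ?_⟩, mem_irreducibleComponent⟩
    rw [connectedComponent_eq hca]
    exact isIrreducible_irreducibleComponent.isPreirreducible.isPreconnected.subset_connectedComponent hc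
      mem_irreducibleComponent
  · rintro ⟨T, ⟨-, hT⟩, hbT⟩ hb
    exact Set.disjoint_left.1 hT hbT hb

/-- A component of a fibre is open in it. -/
theorem isOpen_component_fibre [IsLocallyNoetherian Y] (f : X ⟶ Y) [LocallyOfFiniteType f] [QuasiCompact f]
    (g : Y ⟶ X) (hg : g ≫ f = 𝟙 Y) (y : Y) :
    IsOpen ((f.fiberι y).base ⁻¹' connectedComponentIn (f.base ⁻¹' {y}) (g.base y)) := by
  let ι := f.fiberι y
  obtain ⟨a, ha⟩ : ∃ a, ι a = g y := (f.range_fiberι y).ge (SectionCompConn4.apply_section hg y)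
  have hr : Set.range ι = f ⁻¹' {y} := f.range_fiberι y
  haveI : LocallyOfFiniteType (f.fiberToSpecResidueField y) :=
    inferInstanceAs (LocallyOfFiniteType (pullback.snd f (Y.fromSpecResidueField y)))
  haveI : IsLocallyNoetherian (f.fiber y) := LocallyOfFiniteType.isLocallyNoetherian (f.fiberToSpecResidueField y)
  haveI : QuasiCompact (f.fiberToSpecResidueField y) :=
    inferInstanceAs (QuasiCompact (pullback.snd f (Y.fromSpecResidueField y)))
  haveI : CompactSpace (f.fiber y) := QuasiCompact.compactSpace_of_compactSpace (f.fiberToSpecResidueField y)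
  haveI : IsNoetherian (f.fiber y) := {}
  convert isOpen_connectedComponent a
  refine subset_antisymm ?_ ?_
  · have hsub : connectedComponentIn (f ⁻¹' {y}) (g y) ⊆ Set.range ι := hr ▸ connectedComponentIn_subset _ _
    refine IsPreconnected.subset_connectedComponent ?_ (show ι a ∈ _ by
      show ι a ∈ connectedComponentIn (f ⁻¹' {y}) (g y)
      rw [ha]; exact mem_connectedComponentIn (show g y ∈ f ⁻¹' {y} from SectionCompConn4.apply_section hg y))
    rw [← ι.isEmbedding.isInducing.isPreconnected_image, Set.image_preimage_eq_of_subset hsub]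
    exact isPreconnected_connectedComponentIn
  · intro b hb
    exact (isPreconnected_connectedComponent.image ι ι.continuous.continuousOn).subset_connectedComponentIn
      ⟨a, mem_connectedComponent, ha⟩ (hr ▸ Set.image_subset_range _ _) ⟨b, hb, rfl⟩

theorem sectionComponents_inter_fibre (f : X ⟶ Y) (g : Y ⟶ X) (y : Y) :
    sectionComponents f g ∩ f ⁻¹' {y} = connectedComponentIn (f ⁻¹' {y}) (g y) := by
  ext x
  constructor
  · rintro ⟨h, hx : f x = y⟩
    subst hx
    exact h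
  · intro h
    have hx : f x = y := connectedComponentIn_subset (f ⁻¹' {y}) (g y) h
    subst hx
    exact ⟨h, rfl⟩

theorem preimage_fiberι_component (f : X ⟶ Y) (g : Y ⟶ X) (y : Y) :
    (f.fiberι y).base ⁻¹' sectionComponents f g =
      (f.fiberι y).base ⁻¹' connectedComponentIn (f.base ⁻¹' {y}) (g.base y) := by
  ext v
  show f.fiberι y v ∈ sectionComponents f g ↔ f.fiberι y v ∈ connectedComponentIn (f ⁻¹' {y}) (g y)
  rw [← sectionComponents_inter_fibre]
  exact ⟨fun h => ⟨h, (f.range_fiberι y).le ⟨v, rfl⟩⟩, fun h => h.1⟩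

theorem isProper_opens_congr {F S : Scheme.{u}} (q : F ⟶ S) {V W : F.Opens} (e : V = W) (h : IsProper (V.ι ≫ q)) :
    IsProper (W.ι ≫ q) := e ▸ h

/-- Over a point the union of components through the section pulls back to a connected set. -/
theorem isPreconnected_preimage_point {P S : Scheme.{u}} [Subsingleton S] (s₀ : S) {p : P ⟶ X} {q : P ⟶ S} {e : S ⟶ Y}
    {f : X ⟶ Y} {g : Y ⟶ X} (hg : g ≫ f = 𝟙 Y) (sq : IsPullback p q f e) :
    _root_.IsPreconnected (p ⁻¹' sectionComponents f g) := by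
  have key := SectionCompConn4.isPreconnected_preimage_comp hg sq s₀
  convert key using 1
  ext b
  have hb : f (p b) = e s₀ := by
    rw [← Scheme.Hom.comp_apply, sq.w, Scheme.Hom.comp_apply, Subsingleton.elim (q b) s₀]
  show p b ∈ sectionComponents f g ↔ _ ∧ _
  rw [← sectionComponents_inter_fibre]
  exact ⟨fun h => ⟨⟨h, hb⟩, Subsingleton.elim _ _⟩, fun h => h.1.1⟩

/-- The Noetherian case. -/
theorem exists_proper_nhd_noetherian [IsLocallyNoetherian Y] (f : X ⟶ Y) [IsSeparated f] [LocallyOfFiniteType f]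
    [QuasiCompact f] (g : Y ⟶ X) (hg : g ≫ f = 𝟙 Y) (y : Y)
    (hprop : IsProper (Scheme.Opens.ι (⟨(f.fiberι y).base ⁻¹' connectedComponentIn (f.base ⁻¹' {y}) (g.base y),
      isOpen_component_fibre f g hg y⟩ : (f.fiber y).Opens) ≫ f.fiberToSpecResidueField y)) :
    ∃ U : Y.Opens, y ∈ U ∧ PropOn (f ∣_ U) ((f ⁻¹ᵁ U).ι.base ⁻¹' sectionComponents f g) := by
  haveI : LocallyOfFinitePresentation f := LimH13.locallyOfFinitePresentation_of_noetherian f
  have hmem : ∀ t, g t ∈ sectionComponents f g := fun t => by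
    show g t ∈ connectedComponentIn (f ⁻¹' {f (g t)}) (g (f (g t)))
    rw [SectionCompConn4.apply_section hg t]
    exact mem_connectedComponentIn (SectionCompConn4.apply_section hg t)
  have hopen : IsOpen ((f.fiberι y).base ⁻¹' sectionComponents f g) := by
    rw [preimage_fiberι_component]; exact isOpen_component_fibre f g hg y
  refine exists_proper_nhd f _ y ⟨fun y' _ => ⟨g y', hmem y', SectionCompConn4.apply_section hg y',
    sectionComponents_inter_fibre f g y'⟩, fun y' _ K _ _ => ?_, hopen, ?_, fun T h E _ hW => ?_⟩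
    (SectionCompConn4.isLocallyConstructible_sectionComponents f g hg)
  · haveI : Subsingleton ↥(Spec (CommRingCat.of K)) := inferInstanceAs (Subsingleton (PrimeSpectrum K))
    exact isPreconnected_preimage_point (closedPoint K) hg
      ((IsPullback.of_hasPullback (f.fiberToSpecResidueField y') _).paste_horiz
        (IsPullback.of_hasPullback f (Y.fromSpecResidueField y')))
  · exact isProper_opens_congr _ (TopologicalSpace.Opens.ext (preimage_fiberι_component f g y).symm) hprop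
  · obtain ⟨W, hW, hWE⟩ := hW
    let σ : T ⟶ pullback f h := pullback.lift (h ≫ g) (𝟙 _) (by
      rw [Category.assoc, hg, Category.comp_id, Category.id_comp])
    refine ⟨σ ⁻¹' W, hW.preimage σ.continuous, ?_⟩
    have h2 : ∀ t, pullback.snd f h (σ t) = t := fun t => by
      rw [← Scheme.Hom.comp_apply, pullback.lift_snd]; rfl
    have h1 : ∀ t, pullback.fst f h (σ t) ∈ sectionComponents f g := fun t => by
      rw [← Scheme.Hom.comp_apply, pullback.lift_fst, Scheme.Hom.comp_apply]; exact hmem _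
    ext t
    constructor
    · rintro ⟨ht, -⟩
      have h3 := ((Set.ext_iff.1 hWE (σ t)).1 ⟨ht, h1 t⟩).1
      rwa [Set.mem_preimage, h2] at h3
    · intro ht
      refine ⟨((Set.ext_iff.1 hWE (σ t)).2 ⟨show pullback.snd f h (σ t) ∈ E by rw [h2]; exact ht, h1 t⟩).1,
        g (h t), hmem _, SectionCompConn4.apply_section hg _⟩

/-- Transport of properness of the part over an open along a cartesian square. -/
theorem propOn_baseChange {X₁ Y₁ : Scheme.{u}} {q : X ⟶ X₁} {u : X ⟶ Y} {u₁ : X₁ ⟶ Y₁} {π : Y ⟶ Y₁}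
    (sq : IsPullback q u u₁ π) [IsSeparated u₁] [LocallyOfFiniteType u₁] {Z₁ : Set X₁} {U₁ : Y₁.Opens}
    (h : PropOn (u₁ ∣_ U₁) ((u₁ ⁻¹ᵁ U₁).ι.base ⁻¹' Z₁)) :
    PropOn (u ∣_ (π ⁻¹ᵁ U₁)) ((u ⁻¹ᵁ (π ⁻¹ᵁ U₁)).ι.base ⁻¹' (q ⁻¹' Z₁)) := by
  haveI : IsSeparated u := MorphismProperty.of_isPullback sq inferInstance
  haveI : LocallyOfFiniteType u := MorphismProperty.of_isPullback sq inferInstance
  let U := π ⁻¹ᵁ U₁
  haveI : IsSeparated (u ∣_ U) := IsZariskiLocalAtTarget.restrict (P := @IsSeparated) inferInstance _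
  haveI : LocallyOfFiniteType (u ∣_ U) := IsZariskiLocalAtTarget.restrict (P := @LocallyOfFiniteType) inferInstance _
  haveI := h.isProper
  let g : (U : Scheme.{u}) ⟶ Y₁ := U.ι ≫ π
  have hP := propOn_of_piece u₁ g (𝟙 (U : Scheme.{u})) ((redIdeal h.isClosed).subschemeι ≫ (u₁ ⁻¹ᵁ U₁).ι)
    ((redIdeal h.isClosed).subschemeι ≫ (u₁ ∣_ U₁)) U₁.ι
    (by simp only [Category.assoc, morphismRestrict_ι]) (π ∣_ U₁) (by rw [morphismRestrict_ι, Category.id_comp])
  haveI := hP.isProper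
  let φ₀ : pullback u₁ g ⟶ X := sq.lift (pullback.fst _ _) (pullback.snd _ _ ≫ U.ι)
    (by rw [Category.assoc]; exact pullback.condition)
  have hφ₀ : φ₀ ≫ u = pullback.snd u₁ g ≫ U.ι := sq.lift_snd _ _ _
  have hφq : φ₀ ≫ q = pullback.fst u₁ g := sq.lift_fst _ _ _
  let φ : pullback u₁ g ⟶ (u ⁻¹ᵁ U) := IsOpenImmersion.lift (u ⁻¹ᵁ U).ι φ₀ (by
    rw [Scheme.Opens.range_ι]
    rintro _ ⟨p, rfl⟩
    show u (φ₀ p) ∈ U
    rw [← Scheme.Hom.comp_apply, hφ₀, Scheme.Hom.comp_apply]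
    exact (pullback.snd u₁ g p).2)
  have hφ : φ ≫ (u ∣_ U) = pullback.snd u₁ g := by
    rw [← cancel_mono U.ι, Category.assoc, morphismRestrict_ι, IsOpenImmersion.lift_fac_assoc, hφ₀]
  haveI : IsProper (((redIdeal hP.isClosed).subschemeι ≫ φ) ≫ (u ∣_ U)) := by
    rw [Category.assoc, hφ]; infer_instance
  convert propOn_range (u ∣_ U) ((redIdeal hP.isClosed).subschemeι ≫ φ)
  have hφpt : ∀ p, q ((u ⁻¹ᵁ U).ι (φ p)) = pullback.fst u₁ g p := fun p => by
    rw [← Scheme.Hom.comp_apply, ← Scheme.Hom.comp_apply, IsOpenImmersion.lift_fac_assoc, hφq]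
  ext x
  constructor
  · intro hx
    let ψ : ((u ⁻¹ᵁ U) : Scheme.{u}) ⟶ pullback u₁ g := pullback.lift ((u ⁻¹ᵁ U).ι ≫ q) (u ∣_ U) (by
      rw [Category.assoc, sq.w, morphismRestrict_ι_assoc])
    have hψ : ψ ≫ φ = 𝟙 _ := by
      rw [← cancel_mono (u ⁻¹ᵁ U).ι, Category.assoc, IsOpenImmersion.lift_fac, Category.id_comp]
      apply sq.hom_ext
      · rw [Category.assoc, hφq, pullback.lift_fst]
      · rw [Category.assoc, hφ₀, pullback.lift_snd_assoc, morphismRestrict_ι]
    have hxx : φ (ψ x) = x := by rw [← Scheme.Hom.comp_apply, hψ]; rfl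
    suffices hmem : pullback.fst u₁ g (ψ x) ∈ Set.range ((redIdeal h.isClosed).subschemeι ≫ (u₁ ⁻¹ᵁ U₁).ι) by
      obtain ⟨r, hr⟩ := (range_redι hP.isClosed).ge (show ψ x ∈ _ from ⟨hmem, pullback.snd u₁ g (ψ x), rfl⟩)
      exact ⟨r, by rw [Scheme.Hom.comp_apply, hr, hxx]⟩
    rw [← hφpt, hxx]
    have hU : q ((u ⁻¹ᵁ U).ι x) ∈ u₁ ⁻¹ᵁ U₁ := by
      show u₁ (q ((u ⁻¹ᵁ U).ι x)) ∈ U₁
      rw [← Scheme.Hom.comp_apply, sq.w, Scheme.Hom.comp_apply]
      exact x.2
    obtain ⟨t, ht⟩ := (range_redι h.isClosed).ge (show (⟨_, hU⟩ : ↥(u₁ ⁻¹ᵁ U₁)) ∈ _ from hx)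
    exact ⟨t, by rw [Scheme.Hom.comp_apply, ht]; rfl⟩
  · rintro ⟨r, rfl⟩
    obtain ⟨⟨t, ht⟩, -⟩ := (range_redι hP.isClosed).le ⟨r, rfl⟩
    show q ((u ⁻¹ᵁ U).ι (φ ((redIdeal hP.isClosed).subschemeι r))) ∈ Z₁
    rw [hφpt, ← ht]
    exact (range_redι h.isClosed).le ⟨t, rfl⟩

theorem isProper_component_descend {X₁ Y₁ : Scheme.{u}} {q : X ⟶ X₁} {u : X ⟶ Y} {u₁ : X₁ ⟶ Y₁} {π : Y ⟶ Y₁}
    (sq : IsPullback q u u₁ π) [LocallyOfFiniteType u₁] [IsSeparated u₁] [QuasiCompact u₁]
    {t : Y ⟶ X} {s₁ : Y₁ ⟶ X₁} (hs₁ : s₁ ≫ u₁ = 𝟙 Y₁) (ht : t ≫ u = 𝟙 Y) (hts : t ≫ q = π ≫ s₁) (y : Y)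
    (hop : IsOpen ((u.fiberι y).base ⁻¹' connectedComponentIn (u.base ⁻¹' {y}) (t.base y)))
    (hop₁ : IsOpen ((u₁.fiberι (π y)).base ⁻¹' connectedComponentIn (u₁.base ⁻¹' {π y}) (s₁.base (π y))))
    (hprop : IsProper (Scheme.Opens.ι (⟨(u.fiberι y).base ⁻¹' connectedComponentIn (u.base ⁻¹' {y}) (t.base y),
      hop⟩ : (u.fiber y).Opens) ≫ u.fiberToSpecResidueField y)) :
    IsProper (Scheme.Opens.ι (⟨(u₁.fiberι (π y)).base ⁻¹'
      connectedComponentIn (u₁.base ⁻¹' {π y}) (s₁.base (π y)), hop₁⟩ : (u₁.fiber (π y)).Opens) ≫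
        u₁.fiberToSpecResidueField (π y)) := by
  obtain ⟨pr, hpr, hsq⟩ := FibDim14.exists_fibre_square sq y
  let W₁ : (u₁.fiber (π y)).Opens := ⟨_, hop₁⟩
  let e := Spec.map (FibDim14.resExt π y)
  have hW : (⟨(u.fiberι y).base ⁻¹' connectedComponentIn (u.base ⁻¹' {y}) (t.base y), hop⟩ : (u.fiber y).Opens) =
      pr ⁻¹ᵁ W₁ := by
    ext v
    show u.fiberι y v ∈ connectedComponentIn (u ⁻¹' {y}) (t y) ↔
      u₁.fiberι (π y) (pr v) ∈ connectedComponentIn (u₁ ⁻¹' {π y}) (s₁ (π y))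
    rw [hpr, SectionCompFlat4.mem_comp_iff hs₁ sq ht hts y]
    exact and_iff_left ((u.range_fiberι y).le ⟨v, rfl⟩)
  have hprop' := isProper_opens_congr _ hW hprop
  have hpb : IsPullback (pr ∣_ W₁) ((pr ⁻¹ᵁ W₁).ι ≫ u.fiberToSpecResidueField y)
      (W₁.ι ≫ u₁.fiberToSpecResidueField (π y)) e :=
    (isPullback_morphismRestrict pr W₁).paste_vert hsq
  haveI : Flat e := inferInstance
  haveI : Surjective e := ⟨fun p => ⟨closedPoint _, Subsingleton.elim _ _⟩⟩
  haveI := FpqcDesc.descendsAlong_isProper.{u}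
  exact MorphismProperty.of_isPullback_of_descendsAlong (P := @IsProper)
    (Q := (@Surjective ⊓ @Flat ⊓ @QuasiCompact : MorphismProperty Scheme.{u})) hpb.flip
    ⟨⟨‹Surjective e›, ‹Flat e›⟩, (inferInstance : QuasiCompact e)⟩ hprop'

/-- The affine case. -/
theorem exists_proper_nhd_affine {A : CommRingCat.{u}} (u : X ⟶ Spec A) (t : Spec A ⟶ X) (ht : t ≫ u = 𝟙 _)
    [LocallyOfFinitePresentation u] [QuasiCompact u] [QuasiSeparated u] [IsSeparated u] (y : Spec A)
    (hop : IsOpen ((u.fiberι y).base ⁻¹' connectedComponentIn (u.base ⁻¹' {y}) (t.base y)))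
    (hprop : IsProper (Scheme.Opens.ι (⟨(u.fiberι y).base ⁻¹' connectedComponentIn (u.base ⁻¹' {y}) (t.base y),
      hop⟩ : (u.fiber y).Opens) ≫ u.fiberToSpecResidueField y)) :
    ∃ U : (Spec A).Opens, y ∈ U ∧ PropOn (u ∣_ U) ((u ⁻¹ᵁ U).ι.base ⁻¹' sectionComponents u t) := by
  let c := ConsH13.approxCone A
  have hc : IsLimit c := ConsH13.isLimitApproxCone A
  haveI : CompactSpace X := QuasiCompact.compactSpace_of_compactSpace u
  haveI : QuasiSeparatedSpace X := quasiSeparatedSpace_of_quasiSeparated u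
  haveI : LocallyOfFinitePresentation (Y := c.pt) u := ‹LocallyOfFinitePresentation u›
  obtain ⟨i, X₀, u₀, qX, h1, h2, h3, h4⟩ := LimH13.hasModel_of_finitePresentation hc (X := X) (u : X ⟶ c.pt)
  haveI := h1; haveI := h2; haveI := h3
  haveI : IsIso (𝟙 c.pt) := IsIso.id _
  let t' : c.pt ⟶ X := t
  let u' : X ⟶ c.pt := u
  have ht' : t' ≫ u' = 𝟙 c.pt := ht
  obtain ⟨j, φ, fj, sS, sX, e1, e2, e3, e4, e5, e6⟩ :=
    LimH13.exists_hom_descend hc i (𝟙 ((ConsH13.approxDiagram A).obj i)) u₀ (c.π.app i) (𝟙 c.pt) (IsPullback.of_vert_isIso ⟨by simp⟩) qX u' h4 t' ht'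
  let uj := pullback.snd u₀ ((ConsH13.approxDiagram A).map φ)
  let sj : (ConsH13.approxDiagram A).obj j ⟶ pullback u₀ ((ConsH13.approxDiagram A).map φ) := inv (pullback.snd (𝟙 ((ConsH13.approxDiagram A).obj i)) ((ConsH13.approxDiagram A).map φ)) ≫ fj
  have hsj : sj ≫ uj = 𝟙 _ := by rw [Category.assoc, e1, IsIso.inv_hom_id]
  have sqX : IsPullback sX u uj (c.π.app j) :=
    IsPullback.of_right (by rw [e4]; exact Eq.subst (motive := fun z => IsPullback qX u u₀ z) (c.w φ).symm h4) e5 (IsPullback.of_hasPullback _ _)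
  have hts : t ≫ sX = c.π.app j ≫ sj := by
    have h : sS = c.π.app j ≫ inv (pullback.snd (𝟙 ((ConsH13.approxDiagram A).obj i)) ((ConsH13.approxDiagram A).map φ)) := by
      rw [← cancel_mono (pullback.snd (𝟙 ((ConsH13.approxDiagram A).obj i)) ((ConsH13.approxDiagram A).map φ)), e3, Category.assoc, IsIso.inv_hom_id, Category.comp_id]
      exact Category.id_comp (c.π.app j)
    show t' ≫ sX = c.π.app j ≫ sj
    rw [← e6, h]
    exact Category.assoc _ _ _
  let F := Over.forget j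
  let c' : Cone (F ⋙ (ConsH13.approxDiagram A)) := c.whisker F
  have hc' : IsLimit c' := (Functor.Initial.isLimitWhiskerEquiv F c).symm hc
  haveI : ∀ k, IsAffineHom ((Descend.overT (ConsH13.approxDiagram A) j).app k) := fun k => inferInstanceAs (IsAffineHom ((ConsH13.approxDiagram A).map k.hom))
  haveI : CompactSpace ↥(pullback u₀ ((ConsH13.approxDiagram A).map φ)) :=
    QuasiCompact.compactSpace_of_compactSpace (pullback.fst u₀ ((ConsH13.approxDiagram A).map φ))
  haveI : QuasiSeparated uj := MorphismProperty.pullback_snd _ _ inferInstance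
  haveI : QuasiCompact uj := MorphismProperty.pullback_snd _ _ inferInstance
  haveI : IsSeparated u' := ‹IsSeparated u›
  have hq : ∀ k, c'.π.app k ≫ (Descend.overT (ConsH13.approxDiagram A) j).app k = c.π.app j := fun k => c.w k.hom
  obtain ⟨k, hk⟩ := LimH13.exists_isSeparated (f := uj) (D := F ⋙ (ConsH13.approxDiagram A)) (t := Descend.overT (ConsH13.approxDiagram A) j) (q := c.π.app j) hc'
    hq (g := u') sqX
  let R := (ConsH13.subFunctor A).obj k.left.unop
  let ψ : Spec R ⟶ (ConsH13.approxDiagram A).obj j := (ConsH13.approxDiagram A).map k.hom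
  let X₁ := pullback uj ψ
  let u₁ : X₁ ⟶ Spec R := pullback.snd uj ψ
  haveI : IsSeparated u₁ := hk
  let s₁ : Spec R ⟶ X₁ :=
    pullback.lift (ψ ≫ sj) (𝟙 _) (by rw [Category.assoc, hsj, Category.comp_id, Category.id_comp])
  have hs₁ : s₁ ≫ u₁ = 𝟙 _ := pullback.lift_snd _ _ _
  let π : Spec A ⟶ Spec R := c.π.app k.left
  have hπ : π ≫ ψ = c.π.app j := c.w k.hom
  let q : X ⟶ X₁ := pullback.lift sX (u ≫ π) (by rw [Category.assoc, hπ]; exact sqX.w)
  have sq₁ : IsPullback q u u₁ π :=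
    IsPullback.of_right (by rw [pullback.lift_fst, hπ]; exact sqX) (pullback.lift_snd _ _ _)
      (IsPullback.of_hasPullback uj ψ)
  have hts₁ : t ≫ q = π ≫ s₁ := by
    apply pullback.hom_ext
    · rw [Category.assoc, Category.assoc, pullback.lift_fst, pullback.lift_fst, hts, ← hπ]
      exact Category.assoc π ψ sj
    · rw [Category.assoc, Category.assoc, pullback.lift_snd, pullback.lift_snd, ← Category.assoc, ht, Category.id_comp,
        Category.comp_id]
  haveI : IsNoetherianRing R := inferInstance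
  haveI : IsLocallyNoetherian (Spec R) := inferInstance
  haveI : LocallyOfFinitePresentation uj := MorphismProperty.pullback_snd _ _ inferInstance
  haveI : LocallyOfFinitePresentation u₁ := MorphismProperty.pullback_snd _ _ inferInstance
  haveI : QuasiCompact u₁ := MorphismProperty.pullback_snd _ _ inferInstance
  obtain ⟨U₁, hy₁, hP⟩ := exists_proper_nhd_noetherian u₁ s₁ hs₁ (π y)
    (isProper_component_descend sq₁ hs₁ ht hts₁ y hop (isOpen_component_fibre u₁ s₁ hs₁ (π y)) hprop)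
  refine ⟨π ⁻¹ᵁ U₁, hy₁, ?_⟩
  rw [SectionCompConn4.sectionComponents_baseChange hs₁ sq₁ ht hts₁]
  exact propOn_baseChange sq₁ hP

/-- The general case. -/
theorem exists_proper_nhd_section (f : X ⟶ Y) [IsSeparated f] [LocallyOfFinitePresentation f] [QuasiCompact f]
    (g : Y ⟶ X) (hg : g ≫ f = 𝟙 Y) (y : Y)
    (hop : IsOpen ((f.fiberι y).base ⁻¹' connectedComponentIn (f.base ⁻¹' {y}) (g.base y)))
    (hprop : IsProper (Scheme.Opens.ι (⟨(f.fiberι y).base ⁻¹' connectedComponentIn (f.base ⁻¹' {y}) (g.base y),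
      hop⟩ : (f.fiber y).Opens) ≫ f.fiberToSpecResidueField y)) :
    ∃ U : Y.Opens, y ∈ U ∧ PropOn (f ∣_ U) ((f ⁻¹ᵁ U).ι.base ⁻¹' sectionComponents f g) := by
  obtain ⟨V, hV, hyV, -⟩ := exists_isAffineOpen_mem_and_subset (X := Y) (x := y) (U := ⊤) trivial
  let j := hV.fromSpec
  let p := hV.primeIdealOf ⟨y, hyV⟩
  have hp : j p = y := hV.fromSpec_primeIdealOf ⟨y, hyV⟩
  let u := pullback.snd f j
  let g' := pullback.fst f j
  let t : Spec Γ(Y, V) ⟶ pullback f j :=
    pullback.lift (j ≫ g) (𝟙 _) (by rw [Category.assoc, hg, Category.comp_id, Category.id_comp])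
  have ht : t ≫ u = 𝟙 _ := pullback.lift_snd _ _ _
  have hsq : IsPullback g' u f j := IsPullback.of_hasPullback f j
  obtain ⟨pr, hpr, hsq'⟩ := FibDim14.exists_fibre_square hsq p
  have hW : (u.fiberι p).base ⁻¹' connectedComponentIn (u.base ⁻¹' {p}) (t.base p) =
      pr ⁻¹' ((f.fiberι (j p)).base ⁻¹' connectedComponentIn (f.base ⁻¹' {j p}) (g.base (j p))) := by
    ext v
    show u.fiberι p v ∈ connectedComponentIn (u ⁻¹' {p}) (t p) ↔
      f.fiberι (j p) (pr v) ∈ connectedComponentIn (f ⁻¹' {j p}) (g (j p))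
    rw [hpr, SectionCompFlat4.mem_comp_iff hg hsq ht (pullback.lift_fst _ _ _) p]
    exact and_iff_left ((u.range_fiberι p).le ⟨v, rfl⟩)
  obtain ⟨hop', hprop'⟩ : ∃ h : IsOpen ((f.fiberι (j p)).base ⁻¹'
        connectedComponentIn (f.base ⁻¹' {j p}) (g.base (j p))),
      IsProper (Scheme.Opens.ι (⟨_, h⟩ : (f.fiber (j p)).Opens) ≫ f.fiberToSpecResidueField (j p)) := by
    rw [hp]; exact ⟨hop, hprop⟩
  let W₁ : (f.fiber (j p)).Opens := ⟨_, hop'⟩
  have hop'' : IsOpen ((u.fiberι p).base ⁻¹' connectedComponentIn (u.base ⁻¹' {p}) (t.base p)) := by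
    rw [hW]; exact hop'.preimage pr.continuous
  have hpb : IsPullback (pr ∣_ W₁) ((pr ⁻¹ᵁ W₁).ι ≫ u.fiberToSpecResidueField p)
      (W₁.ι ≫ f.fiberToSpecResidueField (j p)) (Spec.map (FibDim14.resExt j p)) :=
    (isPullback_morphismRestrict pr W₁).paste_vert hsq'
  have hpr' := isProper_opens_congr _ (TopologicalSpace.Opens.ext hW.symm :
    pr ⁻¹ᵁ W₁ = (⟨_, hop''⟩ : (u.fiber p).Opens)) (MorphismProperty.of_isPullback (P := @IsProper) hpb hprop')
  haveI : QuasiSeparated u := inferInstance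
  obtain ⟨U', hpU, hP⟩ := exists_proper_nhd_affine u t ht p hop'' hpr'
  let U := j ''ᵁ U'
  have hU : ∀ x, f x ∈ U ↔ ∃ a ∈ U', j a = f x := fun x => Iff.rfl
  refine ⟨U, ⟨p, hpU, hp⟩, ?_⟩
  haveI := hP.isProper
  haveI : IsSeparated (f ∣_ U) := IsZariskiLocalAtTarget.restrict (P := @IsSeparated) inferInstance _
  haveI : LocallyOfFiniteType (f ∣_ U) := IsZariskiLocalAtTarget.restrict (P := @LocallyOfFiniteType) inferInstance _
  let i := (redIdeal hP.isClosed).subschemeι ≫ (u ⁻¹ᵁ U').ι ≫ g'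
  have hi : Set.range i ⊆ Set.range (f ⁻¹ᵁ U).ι := by
    rw [Scheme.Opens.range_ι]
    rintro _ ⟨r, rfl⟩
    refine (hU _).2 ⟨u ((u ⁻¹ᵁ U').ι ((redIdeal hP.isClosed).subschemeι r)),
      ((redIdeal hP.isClosed).subschemeι r).2, ?_⟩
    rw [← Scheme.Hom.comp_apply, ← hsq.w]
    rfl
  let Θ := IsOpenImmersion.lift (f ⁻¹ᵁ U).ι i hi
  have hΘ : Θ ≫ (f ∣_ U) = ((redIdeal hP.isClosed).subschemeι ≫ (u ∣_ U')) ≫ (j.isoImage U').hom := by
    rw [← cancel_mono U.ι, Category.assoc, morphismRestrict_ι, IsOpenImmersion.lift_fac_assoc]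
    simp only [i, Category.assoc]
    rw [hsq.w]
    have e1 : (j.isoImage U').hom ≫ U.ι = U'.ι ≫ j := j.isoImage_hom_ι U'
    rw [e1, morphismRestrict_ι_assoc]
  haveI : IsProper (Θ ≫ (f ∣_ U)) := by rw [hΘ]; infer_instance
  convert propOn_range (f ∣_ U) Θ
  have hSC := SectionCompConn4.sectionComponents_baseChange hg hsq ht (pullback.lift_fst _ _ _)
  have hΘpt : ∀ r, (f ⁻¹ᵁ U).ι (Θ r) = g' ((u ⁻¹ᵁ U').ι ((redIdeal hP.isClosed).subschemeι r)) := fun r => by
    rw [← Scheme.Hom.comp_apply, IsOpenImmersion.lift_fac]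
    rfl
  ext x
  constructor
  · intro hx
    obtain ⟨a, haU, ha⟩ := (hU _).1 x.2
    obtain ⟨w, hw1, hw2⟩ := Scheme.Pullback.exists_preimage_pullback (f := f) (g := j) ((f ⁻¹ᵁ U).ι x) a ha.symm
    have hwU : w ∈ u ⁻¹ᵁ U' := show u w ∈ U' from hw2 ▸ haU
    obtain ⟨r, hr⟩ := (range_redι hP.isClosed).ge (show (⟨w, hwU⟩ : ↥(u ⁻¹ᵁ U')) ∈ _ by
      show w ∈ sectionComponents u t
      rw [hSC]
      show g' w ∈ sectionComponents f g
      rw [show g' w = (f ⁻¹ᵁ U).ι x from hw1]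
      exact hx)
    refine ⟨r, (f ⁻¹ᵁ U).ι.isEmbedding.injective ?_⟩
    rw [hΘpt, hr]
    exact hw1
  · rintro ⟨r, rfl⟩
    have h1 := (range_redι hP.isClosed).le ⟨r, rfl⟩
    have h2 := (Set.ext_iff.1 hSC _).1 h1
    show (f ⁻¹ᵁ U).ι (Θ r) ∈ sectionComponents f g
    rw [hΘpt]
    exact h2

end Groth.Agent.ZConn5
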