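import Groth.Agent.Lib.ZConn5.Connected
import Groth.Agent.Lib.GenLen5.Geom
import Groth.Agent.Lib.AmpleFin18.Components
import Groth.Agent.Lib.ProjSpace.Basic
import Groth.Agent.S0025
import Groth.Agent.Lib.RedSep.Basic

/-!
Proper closed subsets over a complete trait: a component of the generic part whose closure meets a proper clopen
piece of the closed fibre has proper closure.
-/

universe u

open CategoryTheory CategoryTheory.Limits AlgebraicGeometry TopologicalSpace IsLocalRing

set_option backward.isDefEq.respectTransparency false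
set_option backward.isDefEq.respectTransparency.types false

namespace Groth.Agent.ZConn5

variable {X Y : Scheme.{u}}

/-- The reduced closed subscheme on a closed set. -/
noncomputable abbrev redIdeal {C : Set X} (hC : IsClosed C) : X.IdealSheafData :=
  Scheme.IdealSheafData.vanishingIdeal (⟨C, hC⟩ : Closeds X)

instance {C : Set X} (hC : IsClosed C) : IsReduced (redIdeal hC).subscheme :=
  RedSepLib.isReduced_vanishingIdeal_subscheme _

theorem range_redι {C : Set X} (hC : IsClosed C) : Set.range (redIdeal hC).subschemeι = C := by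
  rw [Scheme.IdealSheafData.range_subschemeι, Scheme.IdealSheafData.coe_support_vanishingIdeal]
  rfl

theorem exists_factor {Z : Scheme.{u}} [IsReduced Z] {C : Set X} (hC : IsClosed C) (i : Z ⟶ X)
    (h : Set.range i ⊆ C) : ∃ m : Z ⟶ (redIdeal hC).subscheme, m ≫ (redIdeal hC).subschemeι = i :=
  AmpleFin18.exists_lift_of_range_subset i _
    (h.trans (Scheme.IdealSheafData.coe_support_vanishingIdeal (⟨C, hC⟩ : Closeds X)).ge)

/-- A closed set is proper over the base. -/
def PropOn (q : X ⟶ Y) (C : Set X) : Prop :=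
  ∃ hC : IsClosed C, IsProper ((redIdeal hC).subschemeι ≫ q)

namespace PropOn

variable {q : X ⟶ Y} {C C' : Set X}

theorem isClosed (h : PropOn q C) : IsClosed C := h.1

theorem isProper (h : PropOn q C) : IsProper ((redIdeal h.isClosed).subschemeι ≫ q) := h.2

theorem mono (h : PropOn q C) (hC' : IsClosed C') (hsub : C' ⊆ C) : PropOn q C' := by
  obtain ⟨m, hm⟩ := exists_factor h.isClosed (redIdeal hC').subschemeι ((range_redι hC').trans_le hsub)
  haveI : IsClosedImmersion (m ≫ (redIdeal h.isClosed).subschemeι) := hm ▸ inferInstance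
  haveI : IsClosedImmersion m := IsClosedImmersion.of_comp m (redIdeal h.isClosed).subschemeι
  haveI := h.isProper
  refine ⟨hC', ?_⟩
  rw [← hm, Category.assoc]
  infer_instance

theorem isClosed_image (h : PropOn q C) : IsClosed (q '' C) := by
  haveI := h.isProper
  have h1 := ((redIdeal h.isClosed).subschemeι ≫ q).isClosedMap _ isClosed_univ
  rwa [Set.image_univ, Scheme.Hom.comp_base, TopCat.coe_comp, Set.range_comp, range_redι] at h1

theorem preimage {X' : Scheme.{u}} (π : X' ⟶ X) [IsProper π] [IsSeparated q] (h : PropOn q C) :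
    PropOn (π ≫ q) (π ⁻¹' C) := by
  have hC' : IsClosed (π ⁻¹' C) := h.isClosed.preimage π.continuous
  obtain ⟨m, hm⟩ := exists_factor h.isClosed ((redIdeal hC').subschemeι ≫ π) (by
    rw [Scheme.Hom.comp_base, TopCat.coe_comp, Set.range_comp, range_redι]
    exact Set.image_preimage_subset _ _)
  haveI : IsProper (m ≫ (redIdeal h.isClosed).subschemeι) := hm ▸ inferInstance
  haveI : IsProper m := IsProper.of_comp m (redIdeal h.isClosed).subschemeι
  haveI := h.isProper
  refine ⟨hC', ?_⟩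
  rw [← Category.assoc, ← hm, Category.assoc]
  infer_instance

theorem image {X' : Scheme.{u}} (π : X' ⟶ X) [IsSeparated q] [LocallyOfFiniteType q] {E : Set X'}
    (h : PropOn (π ≫ q) E) : PropOn q (π '' E) := by
  haveI := h.isProper
  haveI : IsProper (((redIdeal h.isClosed).subschemeι ≫ π) ≫ q) := by rwa [Category.assoc]
  haveI : IsProper ((redIdeal h.isClosed).subschemeι ≫ π) := IsProper.of_comp _ q
  have hcl : IsClosed (π '' E) := by
    have h1 := ((redIdeal h.isClosed).subschemeι ≫ π).isClosedMap _ isClosed_univ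
    rwa [Set.image_univ, Scheme.Hom.comp_base, TopCat.coe_comp, Set.range_comp, range_redι] at h1
  obtain ⟨m, hm⟩ := exists_factor hcl ((redIdeal h.isClosed).subschemeι ≫ π)
    (by rw [Scheme.Hom.comp_base, TopCat.coe_comp, Set.range_comp, range_redι])
  haveI : Surjective m := ⟨fun c => by
    have hc : (redIdeal hcl).subschemeι c ∈ π '' E := (range_redι hcl).le ⟨c, rfl⟩
    obtain ⟨e, he, hec⟩ := hc
    obtain ⟨e', rfl⟩ := (range_redι h.isClosed).ge he
    refine ⟨e', (redIdeal hcl).subschemeι.isEmbedding.injective ?_⟩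
    rw [← Scheme.Hom.comp_apply, hm, Scheme.Hom.comp_apply]
    exact hec⟩
  haveI : UniversallyClosed (m ≫ (redIdeal hcl).subschemeι ≫ q) := by
    rw [reassoc_of% hm]; infer_instance
  haveI : UniversallyClosed ((redIdeal hcl).subschemeι ≫ q) := UniversallyClosed.of_comp_surjective m _
  exact ⟨hcl, ⟨⟩⟩

end PropOn

variable {A : Type u} [CommRing A] [IsLocalRing A]

/-- In a proper closed set over a local ring every point specialises into the closed fibre. -/
theorem exists_specializes_closed {q : X ⟶ Spec (CommRingCat.of A)} {C : Set X} (h : PropOn q C) {x : X}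
    (hx : x ∈ C) : ∃ z ∈ C, x ⤳ z ∧ q z = closedPoint A := by
  have hsub : closure {x} ⊆ C := closure_minimal (Set.singleton_subset_iff.2 hx) h.isClosed
  obtain ⟨z, hz, hqz⟩ := (specializes_closedPoint (q x)).mem_closed
    ((h.mono isClosed_closure hsub).isClosed_image) ⟨x, subset_closure rfl, rfl⟩
  exact ⟨z, hsub hz, specializes_iff_mem_closure.2 hz, hqz⟩

variable [IsNoetherianRing A] [IsAdicComplete (maximalIdeal A) A]

/-- The closed fibre of a connected proper closed set over a complete local ring is connected. -/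
theorem PropOn.isPreconnected_closedFibre {q : X ⟶ Spec (CommRingCat.of A)} {C : Set X} (h : PropOn q C)
    (hC : _root_.IsPreconnected C) : _root_.IsPreconnected (C ∩ q ⁻¹' {closedPoint A}) := by
  haveI := h.isProper
  rw [isPreconnected_closed_iff]
  intro U V hU hV hsub hneU hneV
  by_contra hne
  let ι := (redIdeal h.isClosed).subschemeι
  have hcl : IsClosed ({closedPoint A} : Set (Spec (CommRingCat.of A))) := isClosed_singleton_closedPoint A
  have hfib : IsClosed (q ⁻¹' {closedPoint A}) := hcl.preimage q.continuous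
  obtain ⟨W, hW, hUW, hWV⟩ := exists_isClopen (ι ≫ q) (ι ⁻¹' (U ∩ q ⁻¹' {closedPoint A}))
    (ι ⁻¹' (V ∩ q ⁻¹' {closedPoint A})) ((hU.inter hfib).preimage ι.continuous)
    ((hV.inter hfib).preimage ι.continuous) (by
      ext t
      have ht : ι t ∈ C := (range_redι h.isClosed).le ⟨t, rfl⟩
      constructor
      · rintro (⟨-, h1⟩ | ⟨-, h1⟩) <;> exact h1
      · intro h1
        rcases hsub ⟨ht, h1⟩ with h2 | h2
        · exact Or.inl ⟨h2, h1⟩
        · exact Or.inr ⟨h2, h1⟩)
    (Set.disjoint_left.2 fun t h1 h2 => hne ⟨ι t, ⟨(range_redι h.isClosed).le ⟨t, rfl⟩, h1.2⟩, h1.1, h2.1⟩)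
  haveI : PreconnectedSpace (redIdeal h.isClosed).subscheme := by
    refine ⟨ι.isEmbedding.isInducing.isPreconnected_image.1 ?_⟩
    rwa [Set.image_univ, range_redι]
  obtain ⟨u, ⟨huC, huf⟩, huU⟩ := hneU
  obtain ⟨v, ⟨hvC, hvf⟩, hvV⟩ := hneV
  obtain ⟨u, rfl⟩ := (range_redι h.isClosed).ge huC
  obtain ⟨v, rfl⟩ := (range_redι h.isClosed).ge hvC
  rcases isClopen_iff.1 hW with rfl | rfl
  · exact hUW ⟨huU, huf⟩
  · exact Set.disjoint_left.1 hWV (Set.mem_univ v) ⟨hvV, hvf⟩

/-- A point whose closure meets a proper clopen piece of the closed fibre has proper closure, with closed fibre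
inside that piece. -/
theorem propOn_closure_singleton (q : X ⟶ Spec (CommRingCat.of A)) [IsSeparated q] [LocallyOfFiniteType q]
    [QuasiCompact q] {S : Set X} (hS : PropOn q S)
    (hSo : ∃ O : Set X, IsOpen O ∧ O ∩ q ⁻¹' {closedPoint A} = S) {η : X}
    (hne : (closure {η} ∩ S).Nonempty) :
    PropOn q (closure {η}) ∧ closure {η} ∩ q ⁻¹' {closedPoint A} ⊆ S := by
  obtain ⟨O₁, hO₁, hO₁S⟩ := hSo
  haveI : IsNoetherian (Spec (CommRingCat.of A)) := inferInstance
  have hcl : IsClosed (closure ({η} : Set X)) := isClosed_closure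
  let i := (redIdeal hcl).subschemeι
  obtain ⟨n, T', π, j, hj, hjπ, hπ, hπs, -⟩ := S0025.result (i ≫ q)
  haveI := hj; haveI := hπ; haveI := hπs
  let ρ : T' ⟶ X := π ≫ i
  have hρ : Set.range ρ = closure {η} := by
    rw [Scheme.Hom.comp_base, TopCat.coe_comp, Set.range_comp, π.surjective.range_eq, Set.image_univ, range_redι]
  obtain ⟨η', hη'⟩ := hρ.ge (subset_closure rfl)
  have hE : IsClosed (closure ({η'} : Set T')) := isClosed_closure
  have himg : ρ '' closure {η'} = closure {η} := by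
    refine subset_antisymm ((Set.image_subset_range _ _).trans hρ.le) (closure_minimal
      (Set.singleton_subset_iff.2 ⟨η', subset_closure rfl, hη'⟩) (ρ.isClosedMap _ hE))
  let t := CohB1.ProjSpaceOver.toBase n (Spec (CommRingCat.of A))
  have hjt : j ≫ t = ρ ≫ q := by rw [hjπ, Category.assoc]
  -- the part over `S`
  have hSE : PropOn t (j '' (closure {η'} ∩ ρ ⁻¹' S)) := by
    refine PropOn.image j ?_
    rw [hjt]
    exact (hS.preimage ρ).mono (hE.inter (hS.isClosed.preimage ρ.continuous)) Set.inter_subset_right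
  set P := closure (j '' closure {η'}) with hP
  obtain ⟨O, Z, hO, hZ, hOZ⟩ := j.isLocallyClosed_range
  have hjE : j '' closure {η'} = P ∩ O := by
    refine subset_antisymm (fun p hp => ⟨subset_closure hp, (hOZ.le (Set.image_subset_range _ _ hp)).1⟩) ?_
    rintro p ⟨hp, hpO⟩
    have hpZ : p ∈ Z := closure_minimal (fun p hp => (hOZ.le (Set.image_subset_range _ _ hp)).2) hZ hp
    obtain ⟨p, rfl⟩ : p ∈ Set.range j := hOZ.ge ⟨hpO, hpZ⟩
    refine ⟨p, ?_, rfl⟩
    rw [← hE.closure_eq, j.isEmbedding.closure_eq_preimage_closure_image]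
    exact hp
  obtain ⟨O', hO', hO''⟩ := j.isEmbedding.isInducing.isOpen_iff.1 (hO₁.preimage ρ.continuous)
  have hPP : PropOn t P := by
    refine ⟨isClosed_closure, ?_⟩
    infer_instance
  have hPc : _root_.IsPreconnected P := by
    rw [hP]
    exact ((isPreconnected_singleton.closure).image _ j.continuous.continuousOn).closure
  have hfibre : P ∩ t ⁻¹' {closedPoint A} ⊆ j '' (closure {η'} ∩ ρ ⁻¹' S) := by
    have hmem : ∀ p ∈ P ∩ t ⁻¹' {closedPoint A}, p ∈ O → p ∈ O' → p ∈ j '' (closure {η'} ∩ ρ ⁻¹' S) := by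
      rintro p ⟨hpP, hpf⟩ hpO hpO'
      obtain ⟨e, he, rfl⟩ := hjE.ge ⟨hpP, hpO⟩
      refine ⟨e, ⟨he, hO₁S.le ⟨hO''.le hpO', ?_⟩⟩, rfl⟩
      show q (ρ e) = closedPoint A
      rw [← Scheme.Hom.comp_apply, ← hjt, Scheme.Hom.comp_apply]
      exact hpf
    have hfib : IsClosed (t ⁻¹' {closedPoint A}) := (isClosed_singleton_closedPoint A).preimage t.continuous
    by_contra hnot
    obtain ⟨p, hp, hp'⟩ := Set.not_subset.1 hnot
    obtain ⟨c, hcη, hcS⟩ := hne
    obtain ⟨e, he, rfl⟩ := himg.ge hcη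
    have hef : t (j e) = closedPoint A := by
      rw [← Scheme.Hom.comp_apply, hjt, Scheme.Hom.comp_apply]
      exact (hO₁S.ge hcS).2
    have := isPreconnected_closed_iff.1 (hPP.isPreconnected_closedFibre hPc) _
      ((P ∩ t ⁻¹' {closedPoint A}) ∩ (O ∩ O')ᶜ) hSE.isClosed
      ((isClosed_closure.inter hfib).inter (hO.inter hO').isClosed_compl) (fun r hr => ?_)
      ⟨j e, ⟨subset_closure ⟨e, he, rfl⟩, hef⟩, e, ⟨he, hcS⟩, rfl⟩
      ⟨p, hp, hp, fun h => hp' (hmem p hp h.1 h.2)⟩
    · obtain ⟨r, -, ⟨d, ⟨hd, hdS⟩, rfl⟩, -, hr⟩ := this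
      exact hr ⟨(hjE.le ⟨d, hd, rfl⟩).2, hO''.ge (hO₁S.ge hdS).1⟩
    · by_cases h : r ∈ O ∩ O'
      · exact Or.inl (hmem r hr h.1 h.2)
      · exact Or.inr ⟨hr, h⟩
  have hPO : P ⊆ j '' closure {η'} := by
    intro p hp
    by_contra hpn
    obtain ⟨z, ⟨hzP, hzO⟩, -, hzf⟩ := exists_specializes_closed
      (hPP.mono (isClosed_closure.inter hO.isClosed_compl) Set.inter_subset_left)
      (x := p) ⟨hp, fun h => hpn (hjE.ge ⟨hp, h⟩)⟩
    obtain ⟨d, ⟨hd, -⟩, rfl⟩ := hfibre ⟨hzP, hzf⟩
    exact hzO (hjE.le ⟨d, hd, rfl⟩).2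
  -- `closure {η'}` is proper
  have hEP : PropOn (ρ ≫ q) (closure {η'}) := by
    refine ⟨hE, ?_⟩
    obtain ⟨m, hm⟩ := exists_factor hPP.isClosed ((redIdeal hE).subschemeι ≫ j) (by
      rw [Scheme.Hom.comp_base, TopCat.coe_comp, Set.range_comp, range_redι]
      exact subset_closure)
    haveI : IsClosedImmersion ((redIdeal hE).subschemeι ≫ j) := IsClosedImmersion.of_isPreimmersion _ (by
      rw [Scheme.Hom.comp_base, TopCat.coe_comp, Set.range_comp, range_redι,
        subset_antisymm subset_closure hPO]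
      exact isClosed_closure)
    haveI : IsClosedImmersion (m ≫ (redIdeal hPP.isClosed).subschemeι) := hm ▸ inferInstance
    haveI : IsClosedImmersion m := IsClosedImmersion.of_comp m (redIdeal hPP.isClosed).subschemeι
    haveI := hPP.isProper
    rw [← hjt, ← reassoc_of% hm]
    infer_instance
  refine ⟨himg ▸ hEP.image ρ, ?_⟩
  rintro c ⟨hc, hcf⟩
  obtain ⟨e, he, rfl⟩ := himg.ge hc
  have hef : t (j e) = closedPoint A := by
    rw [← Scheme.Hom.comp_apply, hjt, Scheme.Hom.comp_apply]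
    exact hcf
  obtain ⟨d, ⟨-, hd⟩, hde⟩ := hfibre ⟨subset_closure ⟨e, he, rfl⟩, hef⟩
  exact (j.isEmbedding.injective hde).symm ▸ hd

/-- Propagation through a connected generic piece. -/
theorem propOn_closure_of_connected (q : X ⟶ Spec (CommRingCat.of A)) [IsSeparated q] [LocallyOfFiniteType q]
    [QuasiCompact q] {S : Set X} (hS : PropOn q S)
    (hSo : ∃ O : Set X, IsOpen O ∧ O ∩ q ⁻¹' {closedPoint A} = S) {G : Set X}
    (hG : _root_.IsPreconnected G) (hGcl : ∀ a ∈ G, ∀ b, q b = q a → a ⤳ b → b ∈ G)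
    (hGgen : ∀ a ∈ G, ∀ b, q b = q a → b ⤳ a → b ∈ G) (hGfib : ∀ a ∈ G, ∀ b ∈ G, q a = q b)
    (hne : (closure G ∩ S).Nonempty) {x : X} (hx : x ∈ G) :
    PropOn q (closure {x}) ∧ closure {x} ∩ q ⁻¹' {closedPoint A} ⊆ S := by
  haveI : IsLocallyNoetherian X := LocallyOfFiniteType.isLocallyNoetherian q
  haveI : CompactSpace X := QuasiCompact.compactSpace_of_compactSpace q
  haveI : IsNoetherian X := {}
  let M := {a : X | a ∈ closure G ∧ ∀ w ∈ closure G, w ⤳ a → w = a}
  have hM : M.Finite := GenLen5.finite_maximal isClosed_closure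
  let Good : Set X := {a | (closure {a} ∩ S).Nonempty}
  have hgood : ∀ a ∈ Good, PropOn q (closure {a}) ∧ closure {a} ∩ q ⁻¹' {closedPoint A} ⊆ S :=
    fun a ha => propOn_closure_singleton q hS hSo ha
  have hdown : ∀ a ∈ Good, ∀ c, a ⤳ c → c ∈ Good := by
    intro a ha c hac
    obtain ⟨hp, hf⟩ := hgood a ha
    obtain ⟨z, hz, hcz, hzf⟩ := exists_specializes_closed hp (specializes_iff_mem_closure.1 hac)
    exact ⟨z, specializes_iff_mem_closure.1 hcz, hf ⟨hz, hzf⟩⟩
  have hup : ∀ a, ∀ c ∈ Good, a ⤳ c → a ∈ Good := fun a c ⟨z, hz, hzS⟩ hac =>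
    ⟨z, specializes_iff_mem_closure.1 (hac.trans (specializes_iff_mem_closure.2 hz)), hzS⟩
  let GA := ⋃ a ∈ M ∩ Good, closure {a}
  let GB := ⋃ a ∈ M \ Good, closure {a}
  have hA : IsClosed GA := (hM.inter_of_left _).isClosed_biUnion fun _ _ => isClosed_closure
  have hB : IsClosed GB := hM.diff.isClosed_biUnion fun _ _ => isClosed_closure
  have hcov : closure G ⊆ GA ∪ GB := fun c hc => by
    obtain ⟨a, haG, hac, hmax⟩ := GenLen5.exists_maximal isClosed_closure hc
    by_cases ha : a ∈ Good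
    · exact Or.inl (Set.mem_biUnion ⟨⟨haG, hmax⟩, ha⟩ (specializes_iff_mem_closure.1 hac))
    · exact Or.inr (Set.mem_biUnion ⟨⟨haG, hmax⟩, ha⟩ (specializes_iff_mem_closure.1 hac))
  have hBnot : ∀ c ∈ GB, c ∉ Good := by
    intro c hc hcg
    obtain ⟨a, ⟨-, ha⟩, hac⟩ := Set.mem_iUnion₂.1 hc
    exact ha (hup a c hcg (specializes_iff_mem_closure.2 hac))
  have hAgood : ∀ c ∈ GA, c ∈ Good := by
    intro c hc
    obtain ⟨a, ⟨-, ha⟩, hac⟩ := Set.mem_iUnion₂.1 hc
    exact hdown a ha c (specializes_iff_mem_closure.2 hac)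
  obtain ⟨p, hp, hpS⟩ := hne
  obtain ⟨a, haM, hap, hmax⟩ := GenLen5.exists_maximal isClosed_closure hp
  have haA : a ∈ GA := Set.mem_biUnion ⟨⟨haM, hmax⟩, p, specializes_iff_mem_closure.1 hap, hpS⟩ (subset_closure rfl)
  have hneA : (G ∩ GA).Nonempty := by
    by_contra h
    rw [Set.not_nonempty_iff_eq_empty] at h
    have hGB : G ⊆ GB := fun g hg => (hcov (subset_closure hg)).resolve_left fun h1 => h.le ⟨hg, h1⟩
    exact hBnot a (closure_minimal hGB hB haM) (hAgood a haA)
  have hxA : x ∈ GA := by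
    by_contra h
    obtain ⟨c, -, hcA, hcB⟩ := isPreconnected_closed_iff.1 hG GA GB hA hB
      (fun g hg => hcov (subset_closure hg)) hneA ⟨x, hx, (hcov (subset_closure hx)).resolve_left h⟩
    exact hBnot c hcB (hAgood c hcA)
  exact hgood x (hAgood x hxA)

end Groth.Agent.ZConn5
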