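import Groth.Agent.Lib.EGA43Top.FibreStalk
import Groth.Agent.Lib.SectionCompFlat4
import Groth.Agent.Lib.DVRVal.Basic
import Groth.Agent.Lib.GeomRed18.Apps
import Groth.Agent.Lib.GenLen5.Geom
import Groth.Agent.Lib.FibSub4
import Groth.Agent.Lib.H12.Specialization
import Groth.Agent.Lib.Descend.BaseChangeAt
import Groth.Agent.S4978
import Groth.Prelude.Def_EGA43

/-!
At a geometrically reduced maximal point of a fibre at most one component is universally open, and it is
generically geometrically reduced (EGA IV 15.3.1).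
-/

universe u

open CategoryTheory CategoryTheory.Limits AlgebraicGeometry TopologicalSpace IsLocalRing Topology
open Groth.Agent.FibDim14

set_option backward.isDefEq.respectTransparency false
set_option backward.isDefEq.respectTransparency.types false

namespace Groth.Agent.ZConn5

theorem genericPoint_ne_closedPoint {A : Type u} [CommRing A] [IsDomain A] [IsDiscreteValuationRing A] :
    genericPoint (Spec (CommRingCat.of A)) ≠ closedPoint A := fun h =>
  IsDiscreteValuationRing.not_a_field A
    (by rw [genericPoint_eq_bot_of_affine] at h; exact congrArg PrimeSpectrum.asIdeal h.symm)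

/-- Flat preimmersions are isomorphisms on stalks. -/
theorem bijective_stalkMap {V W : Scheme.{u}} (h : V ⟶ W) [Flat h] [IsPreimmersion h] (v : V) :
    Function.Bijective (h.stalkMap v) := by
  refine ⟨?_, h.stalkMap_surjective v⟩
  letI : Algebra (W.presheaf.stalk (h v)) (V.presheaf.stalk v) := (h.stalkMap v).hom.toAlgebra
  haveI : Module.Flat (W.presheaf.stalk (h v)) (V.presheaf.stalk v) :=
    RingHom.flat_algebraMap_iff.1 (Flat.stalkMap h v)
  haveI : IsLocalHom (algebraMap (W.presheaf.stalk (h v)) (V.presheaf.stalk v)) :=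
    inferInstanceAs (IsLocalHom (h.stalkMap v).hom)
  haveI : Module.FaithfullyFlat (W.presheaf.stalk (h v)) (V.presheaf.stalk v) :=
    Module.FaithfullyFlat.of_flat_of_isLocalHom
  exact FaithfulSMul.algebraMap_injective (W.presheaf.stalk (h v)) (V.presheaf.stalk v)

/-- A closed fibre point with field local ring: the generic part of its local scheme is one reduced point. -/
theorem isDomain_stalk_of_trait {A : Type u} [CommRing A] [IsDomain A] [IsDiscreteValuationRing A] {P : Scheme.{u}}
    (π : P ⟶ Spec (CommRingCat.of A)) [LocallyOfFiniteType π] (z : P) (hz : π z = closedPoint A)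
    (hmax : IsMaxFib π z) (hred : _root_.IsReduced ((π.fiber (π z)).presheaf.stalk (π.asFiber z))) :
    (∀ w₁ w₂ : P, w₁ ⤳ z → π w₁ ≠ closedPoint A → w₂ ⤳ z → π w₂ ≠ closedPoint A → w₁ = w₂) ∧
      ∀ w : P, w ⤳ z → π w ≠ closedPoint A → _root_.IsReduced (P.presheaf.stalk w) := by
  haveI : IsLocallyNoetherian P := LocallyOfFiniteType.isLocallyNoetherian π
  let O := P.presheaf.stalk z
  let S := (Spec (CommRingCat.of A)).presheaf.stalk (π z)
  let ι : Spec O ⟶ P := P.fromSpecStalk z
  let I : Ideal O := (maximalIdeal S).map (π.stalkMap z).hom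
  have hpt : ∀ q : Spec O, maximalIdeal S ≤ q.asIdeal.comap (π.stalkMap z).hom → π (ι q) = π z := fun q hq => by
    have h1 : Spec.map (π.stalkMap z) q = closedPoint S := PrimeSpectrum.ext
      (le_antisymm (IsLocalRing.le_maximalIdeal (q.2.comap (π.stalkMap z).hom).ne_top) hq)
    rw [← Scheme.Hom.comp_apply, ← Scheme.SpecMap_stalkMap_fromSpecStalk, Scheme.Hom.comp_apply, h1,
      Scheme.fromSpecStalk_closedPoint]
  haveI hredI : _root_.IsReduced (O ⧸ I) := by
    have key : ∀ x, (∃ (z' : π.fiber (π z)), π.fiberι (π z) z' = x ∧ _root_.IsReduced ((π.fiber (π z)).presheaf.stalk z')) →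
        _root_.IsReduced (P.presheaf.stalk x ⧸
          (maximalIdeal ((Spec (CommRingCat.of A)).presheaf.stalk (π x))).map (π.stalkMap x).hom) := by
      rintro _ ⟨z', rfl, h⟩
      obtain ⟨e, -⟩ := EGA43Top.exists_ringEquiv_fiber_stalk π (π z) z'
      exact isReduced_of_injective e.toRingHom e.injective
    exact key z ⟨π.asFiber z, π.fiberι_asFiber z, hred⟩
  have hI : I = maximalIdeal O := by
    refine le_antisymm (IsLocalRing.le_maximalIdeal fun h => ?_) fun a ha => ?_
    · have h2 : I ≤ maximalIdeal O := Ideal.map_le_iff_le_comap.2 fun c hc => map_nonunit (π.stalkMap z).hom c hc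
      exact (maximalIdeal.isMaximal O).ne_top (top_unique (h ▸ h2))
    · refine (Ideal.isRadical_iff_quotient_reduced I).2 hredI ?_
      rw [Ideal.radical_eq_sInf, Submodule.mem_sInf]
      rintro q ⟨hIq, hq⟩
      let q' : Spec O := ⟨q, hq⟩
      have h1 := hmax (ι q') ((specializes_closedPoint q').map ι.continuous |>.trans
        (specializes_of_eq P.fromSpecStalk_closedPoint)) (hpt q' (Ideal.map_le_iff_le_comap.1 hIq))
      have h2 : q' = closedPoint O := ι.isEmbedding.injective (h1.trans P.fromSpecStalk_closedPoint.symm)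
      exact (congrArg PrimeSpectrum.asIdeal h2).ge ha
  obtain ⟨ϖ, hϖ⟩ := IsDiscreteValuationRing.exists_irreducible A
  have hS : ∃ s : S, maximalIdeal S = Ideal.span {s} := by
    letI : Algebra A S := (StructureSheaf.toStalk A (π z)).hom.toAlgebra
    haveI : IsLocalization.AtPrime S (π z : PrimeSpectrum A).asIdeal := StructureSheaf.IsLocalization.to_stalk A (π z)
    refine ⟨algebraMap A S ϖ, ?_⟩
    rw [← IsLocalization.AtPrime.map_eq_maximalIdeal (π z : PrimeSpectrum A).asIdeal S,
      show (π z : PrimeSpectrum A).asIdeal = maximalIdeal A from congrArg PrimeSpectrum.asIdeal hz, hϖ.maximalIdeal_eq,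
      Ideal.map_span, Set.image_singleton]
  obtain ⟨s, hs⟩ := hS
  have hm : maximalIdeal O = Ideal.span {π.stalkMap z s} := by
    rw [← hI]
    show Ideal.map _ _ = _
    rw [hs, Ideal.map_span, Set.image_singleton]
  have hbot : ∀ q : Spec O, π (ι q) ≠ closedPoint A → q.asIdeal = ⊥ := fun q hq => by
    have ht : π.stalkMap z s ∉ q.asIdeal := fun ht => hq ((hpt q (by
      rw [hs, Ideal.span_singleton_le_iff_mem]; exact ht)).trans hz)
    refine Submodule.eq_bot_of_le_smul_of_le_jacobson_bot (maximalIdeal O) _ (IsNoetherian.noetherian _) ?_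
      (IsLocalRing.maximalIdeal_le_jacobson _)
    intro a ha
    have ha' : a ∈ maximalIdeal O := IsLocalRing.le_maximalIdeal q.2.ne_top ha
    rw [hm, Ideal.mem_span_singleton] at ha'
    obtain ⟨b, rfl⟩ := ha'
    exact Submodule.smul_mem_smul (hm ▸ Ideal.mem_span_singleton_self _) ((q.2.mem_or_mem ha).resolve_left ht)
  have hmem : ∀ w : P, w ⤳ z → ∃ q : Spec O, ι q = w := fun w hw => (Scheme.range_fromSpecStalk (X := P) (x := z)).ge hw
  refine ⟨fun w₁ w₂ h₁ e₁ h₂ e₂ => ?_, fun w hw e => ?_⟩
  · obtain ⟨q₁, rfl⟩ := hmem w₁ h₁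
    obtain ⟨q₂, rfl⟩ := hmem w₂ h₂
    exact congrArg ι (PrimeSpectrum.ext ((hbot q₁ e₁).trans (hbot q₂ e₂).symm))
  · obtain ⟨q, rfl⟩ := hmem w hw
    haveI : IsDomain O := by
      have h := q.2
      rw [hbot q e] at h
      exact @IsDomain.of_bot_isPrime O _ h
    haveI := Descend.flat_fromSpecStalk z
    exact isReduced_of_injective (ι.stalkMap q).hom (bijective_stalkMap ι q).1

/-- Geometrically reduced points stay reduced after a field extension. -/
theorem isReduced_stalk_of_isPullback {k k' : Type u} [Field k] [Field k'] (φ : k →+* k') {F F' : Scheme.{u}}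
    {g : F ⟶ Spec (CommRingCat.of k)} {g' : F' ⟶ Spec (CommRingCat.of k')} {pr : F' ⟶ F}
    (sq : IsPullback pr g' g (Spec.map (CommRingCat.ofHom φ))) (w : F') (hw : FBase.IsGeomReducedAt g (pr w)) :
    _root_.IsReduced (F'.presheaf.stalk w) := by
  letI : Algebra k k' := φ.toAlgebra
  let e := sq.isoPullback
  haveI : _root_.IsReduced ((pullback g (Spec.map (CommRingCat.ofHom φ))).presheaf.stalk (e.hom w)) :=
    hw k' (e.hom w) (congrArg (fun ψ => ψ w) sq.isoPullback_hom_fst)
  let ee := (asIso (e.hom.stalkMap w)).commRingCatIsoToRingEquiv.symm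
  exact isReduced_of_injective ee.toRingHom ee.injective

variable {X Y : Scheme.{u}} (f : X ⟶ Y)

/-- Geometric reducedness gives reduced fibre stalks after base change. -/
theorem isReduced_fiber_stalk {X' Y' : Scheme.{u}} {p : X' ⟶ X} {f' : X' ⟶ Y'} {h : Y' ⟶ Y}
    (hsq : IsPullback p f' f h) (x' : X')
    (hred : FBase.IsGeomReducedAt (f.fiberToSpecResidueField (f (p x'))) (f.asFiber (p x'))) :
    _root_.IsReduced ((f'.fiber (f' x')).presheaf.stalk (f'.asFiber x')) := by
  obtain ⟨pr, hpr, sq⟩ := exists_fibre_square hsq (f' x')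
  have key : ∀ y, y = f (p x') → ∀ w : f.fiber y, f.fiberι y w = p x' →
      FBase.IsGeomReducedAt (f.fiberToSpecResidueField y) w := by
    rintro _ rfl w hw
    rwa [(f.fiberι (f (p x'))).isEmbedding.injective (hw.trans (f.fiberι_asFiber _).symm)]
  have h1 := key (h (f' x')) (by rw [← Scheme.Hom.comp_apply, ← hsq.w, Scheme.Hom.comp_apply])
    (pr (f'.asFiber x')) (by rw [hpr, f'.fiberι_asFiber])
  exact isReduced_stalk_of_isPullback (k := Y.residueField (h (f' x'))) (k' := Y'.residueField (f' x'))
    (resExt h (f' x')).hom sq (f'.asFiber x') h1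

variable [IsLocallyNoetherian Y] [LocallyOfFiniteType f]

/-- Components universally open over `zX` share one generic point, reduced along the trait. -/
theorem exists_generic_point {A : Type u} [CommRing A] [IsDomain A] [IsDiscreteValuationRing A] {K : Type u} [Field K]
    [Algebra A K] [IsFractionRing A K] (g : Spec (CommRingCat.of A) ⟶ Y)
    (hη : ∀ q : Y, q ⤳ g (genericPoint (Spec (CommRingCat.of A))) → q = g (genericPoint (Spec (CommRingCat.of A))))
    {zX : X} (hg : g (closedPoint A) = f zX) (hmax : IsMaxFib f zX)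
    (hred : FBase.IsGeomReducedAt (f.fiberToSpecResidueField (f zX)) (f.asFiber zX)) :
    ∃ S : Set X, S.Subsingleton ∧
      (∀ p ∈ S, ∃ P : ↥(pullback f (Spec.map (CommRingCat.ofHom (algebraMap A K)) ≫ g)),
        pullback.fst f _ P = p ∧ _root_.IsReduced ((pullback f (Spec.map (CommRingCat.ofHom (algebraMap A K)) ≫ g)).presheaf.stalk P)) ∧
      ∀ (W : Scheme.{u}) (j : W ⟶ X) [IsClosedImmersion j] (b : W), j b = zX → EGA43.IsUnivOpenAt (j ≫ f) b →
        ∀ ξ : X, (∀ q, q ⤳ ξ → q = ξ) → (∀ v : W, ξ ⤳ j v) → ξ ∈ S := by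
  let π := pullback.snd f g
  let τ : Spec (CommRingCat.of K) ⟶ Spec (CommRingCat.of A) := Spec.map (CommRingCat.ofHom (algebraMap A K))
  let η := genericPoint (Spec (CommRingCat.of A))
  haveI : IsPreimmersion τ := IsPreimmersion.of_isLocalization (nonZeroDivisors A)
  have hτ : ∀ s, τ s = η := fun s =>
    (congrArg τ (Subsingleton.elim (α := PrimeSpectrum K) s (closedPoint K))).trans (S4978.pt_generic (K := K) A)
  obtain ⟨z₀, hz₀, hz₀'⟩ := Scheme.Pullback.exists_preimage_pullback (f := f) (g := g) zX (closedPoint A) hg.symm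
  obtain ⟨z, hzz₀, hzf, hzmax, -⟩ := FibGen4.exists_isMaxFib π z₀
  have hπz : π z = closedPoint A := hzf.trans hz₀'
  have hz : pullback.fst f g z = zX := hmax _ (hz₀ ▸ hzz₀.map (pullback.fst f g).continuous) (by
    rw [← Scheme.Hom.comp_apply, pullback.condition, Scheme.Hom.comp_apply, ← hg]
    exact congrArg g hπz)
  obtain ⟨huniq, hredP⟩ := isDomain_stalk_of_trait π z hπz hzmax
    (isReduced_fiber_stalk f (IsPullback.of_hasPullback f g) z (hz ▸ hred))
  let T : Set ↥(pullback f g) := {w | w ⤳ z ∧ π w = η}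
  refine ⟨pullback.fst f g '' T, ?_, ?_, fun W j _ b hjb hopen ξ hξ hgen => ?_⟩
  · rintro _ ⟨w₁, h₁, rfl⟩ _ ⟨w₂, h₂, rfl⟩
    exact congrArg _ (huniq w₁ w₂ h₁.1 (h₁.2.symm ▸ genericPoint_ne_closedPoint) h₂.1
      (h₂.2.symm ▸ genericPoint_ne_closedPoint))
  · rintro _ ⟨w, ⟨hw, hwη⟩, rfl⟩
    let e := pullbackLeftPullbackSndIso f g τ
    obtain ⟨v, hv, -⟩ := Scheme.Pullback.exists_preimage_pullback (f := π) (g := τ) w (closedPoint K)
      (hwη.trans (hτ _).symm)
    refine ⟨e.hom v, ?_, ?_⟩
    · rw [← Scheme.Hom.comp_apply, pullbackLeftPullbackSndIso_hom_fst, Scheme.Hom.comp_apply, hv]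
    · haveI := hredP w hw (hwη.symm ▸ genericPoint_ne_closedPoint)
      haveI : _root_.IsReduced ((pullback f g).presheaf.stalk (pullback.fst π τ v)) := by rw [hv]; infer_instance
      haveI : Flat τ := Flat.SpecMap_iff.2 (RingHom.flat_algebraMap_iff.2 (IsLocalization.flat K (nonZeroDivisors A)))
      haveI : Flat (pullback.fst π τ) := MorphismProperty.pullback_fst (P := @Flat) _ _ inferInstance
      haveI : IsPreimmersion (pullback.fst π τ) := MorphismProperty.pullback_fst _ _ inferInstance
      let σ := RingEquiv.ofBijective ((pullback.fst π τ).stalkMap v).hom (bijective_stalkMap (pullback.fst π τ) v)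
      haveI : _root_.IsReduced ((pullback π τ).presheaf.stalk v) :=
        isReduced_of_injective σ.symm.toRingHom σ.symm.injective
      exact isReduced_of_injective (asIso (e.hom.stalkMap v)).commRingCatIsoToRingEquiv.toRingHom
        (asIso (e.hom.stalkMap v)).commRingCatIsoToRingEquiv.injective
  · let Q := pullback (j ≫ f) g
    let e := pullbackRightPullbackFstIso f g j
    obtain ⟨c₀, hc₁, hc₂⟩ := Scheme.Pullback.exists_preimage_pullback (f := j) (g := pullback.fst f g) b z (hjb.trans hz.symm)
    let m : Q ⟶ pullback f g := e.inv ≫ pullback.snd j (pullback.fst f g)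
    let c : Q := e.hom c₀
    have hmc : m c = z := by
      rw [← Scheme.Hom.comp_apply, ← Category.assoc, Iso.hom_inv_id, Category.id_comp, hc₂]
    have hmπ : m ≫ π = pullback.snd (j ≫ f) g := by
      rw [Category.assoc, ← pullbackRightPullbackFstIso_inv_snd_snd]
    have hmfst : m ≫ pullback.fst f g = pullback.fst (j ≫ f) g ≫ j := by
      rw [Category.assoc, ← pullback.condition, ← Category.assoc, pullbackRightPullbackFstIso_inv_fst]
    have hcb : pullback.fst (j ≫ f) g c = b := by
      rw [← Scheme.Hom.comp_apply, pullbackRightPullbackFstIso_hom_fst, hc₁]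
    have hcl : c ∈ closure (Set.range (pullback.fst (pullback.snd (j ≫ f) g) τ)) := by
      rw [mem_closure_iff_nhds]
      intro O hO
      obtain ⟨N, hN, hNo, hcN⟩ := mem_nhds_iff.1 (hopen _ g c hcb O hO)
      obtain ⟨v, hv, hvη⟩ := hN ((genericPoint_specializes _).mem_open hNo hcN)
      exact ⟨v, hv, (Scheme.Pullback.range_fst (f := pullback.snd (j ≫ f) g) (g := τ)).ge
        ⟨closedPoint K, (hτ _).trans hvη.symm⟩⟩
    haveI : QuasiCompact τ := inferInstance
    haveI : QuasiCompact (pullback.fst (pullback.snd (j ≫ f) g) τ) := MorphismProperty.pullback_fst _ _ inferInstance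
    obtain ⟨v, hvc⟩ := H12.exists_specializes_of_mem_closure_range _ c hcl
    set v' := pullback.fst (pullback.snd (j ≫ f) g) τ v with hv'
    have hvη : π (m v') = η := by
      rw [← Scheme.Hom.comp_apply, hmπ, hv', ← Scheme.Hom.comp_apply, pullback.condition, Scheme.Hom.comp_apply, hτ]
    have hw : m v' ∈ T := ⟨hmc ▸ hvc.map m.continuous, hvη⟩
    refine ⟨m v', hw, ?_⟩
    have hsp : ξ ⤳ pullback.fst f g (m v') := by
      rw [← Scheme.Hom.comp_apply, hmfst, Scheme.Hom.comp_apply]
      exact hgen _
    have hfp : f (pullback.fst f g (m v')) = g η := by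
      rw [← Scheme.Hom.comp_apply, pullback.condition, Scheme.Hom.comp_apply]
      exact congrArg g hvη
    have hfξ : f ξ = g η := hη _ (hfp ▸ hsp.map f.continuous)
    obtain ⟨pr, hpr, sq⟩ := exists_fibre_square (IsPullback.of_hasPullback f g) η
    haveI : Flat (Spec.map (resExt g η)) := inferInstance
    haveI : Flat pr := MorphismProperty.of_isPullback (P := @Flat) sq.flip inferInstance
    obtain ⟨a, ha⟩ := (π.range_fiberι η).ge hvη
    obtain ⟨d, hd⟩ := (f.range_fiberι (g η)).ge hfξ
    have hda : d ⤳ pr a := by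
      rw [← (f.fiberι (g η)).isEmbedding.isInducing.specializes_iff, hd, hpr, ha]
      exact hsp
    obtain ⟨a', ha', had⟩ := Flat.generalizingMap pr hda
    have ha'η : π (π.fiberι η a') = η := (π.range_fiberι η).le ⟨a', rfl⟩
    have hsp' : π.fiberι η a' ⤳ z := ((ha'.map (π.fiberι η).continuous).trans (specializes_of_eq ha)).trans hw.1
    rw [← hd, ← had, hpr, huniq _ _ hsp' (ha'η.symm ▸ genericPoint_ne_closedPoint) hw.1
      (hvη.symm ▸ genericPoint_ne_closedPoint)]

end Groth.Agent.ZConn5
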